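import Cfsg.Agent.SporRec.LeechChain
import Cfsg.Agent.Co2Type.Mono
import Mathlib
import Cfsg.Agent.Co2Type.FactsD
import Cfsg.Agent.Co2Type.MatCodes
import Cfsg.Agent.Co2Type.Co2El
import Cfsg.Agent.SevenCases.SporCo2
import Cfsg.Agent.J4Type.DuadM24
import Cfsg.Agent.H385.SpCoTwo
import Cfsg.Agent.H7.NBpCount
import Cfsg.Agent.Lib.ListFast
import Cfsg.Agent.FastGrp
import Cfsg.Agent.Prune
set_option linter.all false
open scoped Cfsg.Agent.FastGrp

-- part: H663/ObCo2Code
section
/-!
# Codes modulo three of the monomial elements of `Co0` (helper663)

`monG m P` is the packed matrix of `mo m P`: `rho_mo`.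
-/

set_option autoImplicit false

namespace Cfsg.Agent.H663.ObCo2

open Cfsg Cfsg.Agent.SporadicA.GolayBase Cfsg.Agent.SporadicA.GolayPerm
open Cfsg.Agent.SporadicStructure.M24El Cfsg.Agent.SporadicA.Co0Mono
open Cfsg.Agent.Co2Type.Mono Cfsg.Agent.Lib.PackMat Cfsg.Agent.SporRec.LeechMod3
open Cfsg.Agent.SporadicStructure.Co0Base (e8 e8_coe)

/-- the entry of the column `j` -/
def monC (m P j : ℕ) : ℕ := 1 + (m >>> papp P j) % 2

/-- the code of the monomial matrix -/
def monG (m P : ℕ) : ℕ :=
  (List.range 24).foldr (fun j a => (monC m P j) <<< (15 * (papp P j + 24 * j)) + a) 0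

theorem foldr_eq (f : ℕ → ℕ) (n : ℕ) (a : ℕ) :
    (List.range n).foldr (fun j a => f j + a) a = ∑ j ∈ Finset.range n, f j + a := by
  induction n generalizing a with
  | zero => simp
  | succ n ih =>
    rw [List.range_succ, List.foldr_append, ih, Finset.sum_range_succ]
    show ∑ j ∈ Finset.range n, f j + (f n + a) = _
    ring

theorem monG_eq (m P : ℕ) :
    monG m P = ∑ j ∈ Finset.range 24, monC m P j * 2 ^ (15 * (papp P j + 24 * j)) := by
  unfold monG
  rw [foldr_eq (fun j => (monC m P j) <<< (15 * (papp P j + 24 * j))), add_zero]
  exact Finset.sum_congr rfl fun j _ => Nat.shiftLeft_eq _ _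

theorem E_blocks {s : ℕ} (c a : ℕ → ℕ) (n : ℕ) : ∀ J : ℕ, (∀ j < J, a j < n) →
    E s (fun t => if a (t / n) = t % n then c (t / n) else 0) (n * J) =
      ∑ j ∈ Finset.range J, c j * 2 ^ (s * (a j + n * j)) := by
  intro J
  induction J with
  | zero => intro _; rw [Nat.mul_zero, E_zero]; simp
  | succ J ih =>
    intro h
    have hn : 0 < n := lt_of_le_of_lt (Nat.zero_le _) (h J (Nat.lt_succ_self J))
    have h1 := ih fun j hj => h j (Nat.lt_succ_of_lt hj)
    rw [E_def] at h1 ⊢
    rw [Nat.mul_succ, Finset.sum_range_add, h1, Finset.sum_range_succ]
    congr 1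
    have h2 : ∀ x ∈ Finset.range n, (if a ((n * J + x) / n) = (n * J + x) % n then c ((n * J + x) / n) else 0) *
        2 ^ (s * (n * J + x)) = if a J = x then c J * 2 ^ (s * (a J + n * J)) else 0 := by
      intro x hx
      rw [Finset.mem_range] at hx
      have e1 : (n * J + x) / n = J := by
        rw [Nat.mul_add_div hn, Nat.div_eq_of_lt hx, add_zero]
      have e2 : (n * J + x) % n = x := by
        rw [Nat.mul_add_mod, Nat.mod_eq_of_lt hx]
      rw [e1, e2]
      by_cases h3 : a J = x
      · rw [if_pos h3, if_pos h3, h3, add_comm (n * J) x]
      · rw [if_neg h3, if_neg h3, zero_mul]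
    rw [Finset.sum_congr rfl h2, Finset.sum_ite_eq, if_pos (Finset.mem_range.2 (h J (Nat.lt_succ_self J)))]

theorem dg_monG {m P : ℕ} (hP : isPerm P = true) {i j : ℕ} (hi : i < 24) (hj : j < 24) :
    dg 15 (monG m P) (i + 24 * j) = if papp P j = i then monC m P j else 0 := by
  have h1 := E_blocks (s := 15) (monC m P) (papp P) 24 24 fun j hj => papp_lt hP hj
  rw [monG_eq, ← h1, dg_E]
  · have e1 : (i + 24 * j) / 24 = j := by omega
    have e2 : (i + 24 * j) % 24 = i := by omega
    rw [e1, e2]
  · intro t _
    have h2 : ∀ k, monC m P k < 2 ^ 15 := by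
      intro k
      unfold monC
      have : (m >>> papp P k) % 2 < 2 := Nat.mod_lt _ (by norm_num)
      omega
    show (if papp P (t / 24) = t % 24 then monC m P (t / 24) else 0) < 2 ^ 15
    split_ifs
    · exact h2 _
    · norm_num
  · omega

theorem E8_eq (p : GolayPt) : E8 p = e8 p := by
  apply Subtype.ext
  funext q
  rw [E8_apply, e8_coe, Pi.single_apply]

theorem pt_eq {k : ℕ} (hk : k < 24) : Cfsg.Agent.LeechMat.Code.pt k = Cfsg.Agent.SporadicA.GolayBase.pt k := by
  have : ∀ k < 24, Cfsg.Agent.LeechMat.Code.pt k = Cfsg.Agent.SporadicA.GolayBase.pt k := by decide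
  exact this k hk

/-- **The matrix of a monomial element.** -/
theorem rho_mo {m P : ℕ} (hm : isCode m = true) (hP : ok P = true) : rho (mo m P) = mt (monG m P) := by
  have hp := (ok_iff.1 hP).1
  ext i j
  rw [rho_apply, E8_eq, mo_smul_e8 hm, pt_eq i.2, pt_eq j.2, idx_pt i.2]
  show _ = ((dg 15 (monG m P) (i + 24 * j) : ℕ) : ZMod 3)
  rw [dg_monG hp i.2 j.2]
  have h1 : ((el P : Equiv.Perm GolayPt) (Cfsg.Agent.SporadicA.GolayBase.pt j) = Cfsg.Agent.SporadicA.GolayBase.pt i) ↔ papp P j = i := by
    have h2 : idx ((el P : Equiv.Perm GolayPt) (Cfsg.Agent.SporadicA.GolayBase.pt j)) = papp P j := by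
      rw [coe_el hP, idx_permOf, idx_pt j.2]
    constructor
    · intro h
      rw [h, idx_pt i.2] at h2
      exact h2.symm
    · intro h
      apply idx_injective
      rw [h2, h, idx_pt i.2]
  by_cases h : papp P j = i
  · rw [if_pos (h1.2 h), if_pos h]
    unfold monC
    rw [h, ← ite_testBit]
    by_cases hb : m.testBit i = true
    · rw [if_pos hb, if_pos hb]; decide
    · rw [if_neg hb, if_neg hb]; decide
  · rw [if_neg (fun h2 => h (h1.1 h2)), if_neg h]; decide

/-- the matrix of `mo2 m P` -/
theorem rho_mo2 {m P : ℕ} (hm : inE m = true) (hP : okP P = true) : rho (toCo0 (mo2 m P)) = mt (monG m P) := by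
  rw [toCo0_mo2 hm hP, rho_mo (isCode_of_inE hm) (ok_of_okP hP)]

end Cfsg.Agent.H663.ObCo2
end

-- part: H663/ObCo2Data
section
/-!
Data for `H663/ObCo2` (generated by helper663): the octads avoiding two points with their involutions, the
involutions of trace -8 of `Co2` commuting with a fixed 2C-involution, and a matrix modulo three.
-/

set_option autoImplicit false

namespace Cfsg.Agent.H663.ObCo2

/-- the octads avoiding the points of index 0, 23 and the involution fixing them that interchanges these points -/
def octL : List (ℕ × ℕ) := [
  (6554826, 29415934126259888158686815361027127), (145176, 26070786408970238771869303816967383),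
  (5309160, 28989229898157152174082485223797335), (545190, 11943302717949000103320032424527927),
  (7903248, 29435610948763618421167709975787639), (3474978, 8666157483964500290736939434490935),
  (84464, 4393146426425102765453846537513463), (5405696, 28664373543511122009256802092635383),
  (7438406, 29435130754976128023412341036419127), (2675464, 2173530842235092426146829815616215),
  (1410188, 24892481153451736533347280408906039), (2130606, 16441686340434924356279569257433143),
  (5262104, 28664174065197527882165316300691063), (596054, 17163484415615086638714852219684919),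
  (2810896, 7350592747473316677238876069704279), (4490852, 29208078940478120610497395466799767),
  (42232, 19011328073749457969986943794130199), (5476616, 28623845860469509479176408102181559),
  (705094, 10681993389825168598708525836961847), (2702848, 8663901725324723605890300993029303),
  (6594610, 29417796289222093148449539336060983), (1337732, 28177558062162185302074132182567319),
  (168928, 3178131950380098159225502879570071), (5350928, 28826665701071936886111872293045335),
  (2820376, 7344260699698375132819884681045655), (1849378, 8179657216161780206169118282489911),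
  (126216, 7284777178087612308937592448064727), (2232654, 20343548431043442654567961424136247),
  (8077824, 29435615137403414940629771404881175), (4593028, 29090187774028845886751906766358903),
  (1384564, 1932239001265248850593219166472919), (252432, 23655734991284348031849736727514327),
  (2106966, 21640358517826665490162244441606199), (2769128, 6057601526503618116306465909212247),
  (4465308, 28904120534881725157370877970582039), (5129250, 28728273525507709560231316289555511),
  (4361520, 29344419793114802503510808190261495), (1161408, 24851906469401561637476012594892247),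
  (3294342, 15156273880260460269835907613493303), (3678776, 22945244255210111055436048450560375),
  (5652556, 29029617841441598462743211039361207), (987906, 19011731679603474411757632108080183),
  (4241960, 28619991021563349999373863721475767), (6889680, 29429271468893102754624345968411735),
  (3806496, 6070275542184313118553098735040023), (475812, 16190892181738073761706325615609975),
  (861210, 3178775605531490664207314667558967), (4441280, 28947609270699108964000125286490487),
  (6305926, 29427489013535382451599532014143543), (1110320, 13249567452574013054672615527501047),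
  (277580, 25374189043728842624340974963362071), (2605066, 16439430927319126539968178425009207),
  (1230376, 17184519787777121035013027289728087), (6842656, 29412790718383625999356429906497847),
  (1613974, 21038703797431235591676386966079543), (396116, 19602338021022171186007812101278103),
  (4336072, 29299710352572033853454738354453847), (1121336, 10693956771107863094189327248366199),
  (3704512, 21647169741103660076458455793304663), (381252, 22274070306866102783214136382327159),
  (2501890, 9959280292089700961015079742156855), (6062602, 29070539026850751238422420981393463),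
  (4202192, 29217344650974509451812743540053559), (1256224, 3960232760132921627523857152429751),
  (6915112, 29419122797588351457490806282242455), (2365978, 20347874590228539139045489314471991),
  (884962, 26071277717594622315063045037282359), (4415544, 29340620570662517957029049942508631),
  (1070536, 5421166713199219533981087571231159), (4785798, 28820793223202677761424906652289079),
  (301236, 12353832778971609408171419764164887), (7622914, 29435226386603403850249348525304887),
  (2949708, 13848590552447254803414323101272311), (4282144, 28806153614840516869064715575598711),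
  (1204944, 4528447225218527213057199351482775), (1573998, 23675423068553433309540073939765303),
  (837906, 12092894536792210962822273725771831), (8126628, 29435622061258227005749040069806295),
  (10558, 21159163873795149579542675899648055), (7397512, 29435491037843834829394639109336471),
  (675712, 1914911924472243136386796373820119), (1369154, 6678679833213173746479272987730999),
  (3610628, 19050632707095562612782220818188567), (138790, 9633521321339889481096044332124215),
  (2220640, 13837795560941099981997347925772663), (555160, 8439509237928437100764944144645783),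
  (5210132, 28770106000223622339025476757293495), (90318, 5979083481046627210642690398062647),
  (2268296, 2156598674347257463049366450321111), (722544, 28170494886471580657496667533585815),
  (5780352, 29313931278759190334460608182261207), (4626498, 28686203373708548986021328581206071),
  (6644740, 29423579690838161906413338122356887), (2141072, 24225226902548029001006560607014071),
  (5268006, 29029523206804134086316726415820855), (602472, 14850017040885015624873860107718999),
  (5899416, 28786565649808018267788159519672695), (4063314, 7368360906821610290156470591134775),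
  (36294, 22850249688695149930605711816296503), (2322816, 24218611471640449641423716279233175),
  (7357552, 29435522361036345043725051140222551), (6588684, 29427659696180337884515438219594135),
  (1327290, 8219904618265178018076044327765047), (1975812, 4407129107857114830100655003863543),
  (2180760, 8647161565439825506735069782450775), (580704, 17221795512730145461315810904805911),
  (2826278, 6055071181017011428787402404464695), (4538962, 28969958846589009036689109881697335),
  (1839388, 13371953760271707170841840867969399), (115766, 17617041893071352419475170158741559),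
  (2242672, 25535161930888643425111676792940855), (7409024, 29435457300488123727637385847159351),
  (762504, 26558034657855755059724353173302871), (1378634, 7205507583230941050817782461083703),
  (5003780, 29396325358846642421639194900498711), (2101096, 21630538171563463488419040581489079),
  (628112, 26436345848312700765106867857307831), (5939296, 28745999582956363952437800828445271),
  (4459426, 29093158545953535940205012705620023), (3457556, 15156528505651972460067038030989655),
  (4367374, 29056556645219061088702994309023799), (6379592, 29412565970271496787739219489575415),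
  (4768432, 29268284180113929410301367551209751), (3672838, 19051021382979914925445836698683447),
  (351362, 22246221607402734673460148477141047), (2531524, 11241588084103978139123910462245495),
  (4231958, 28692572148463289304989932303583287), (3168928, 3474099804727641307769543168711095),
  (1687640, 9639978141982720938839749102252407), (855332, 4519949708594040768569860355197335),
  (6295992, 29422860712269709705497200807749111), (1103886, 28177506102983596761146002278287415),
  (3351624, 12560451038711817433754916615205143), (4819776, 28972912184802613892794942205642199),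
  (267634, 26557936554431823381115094167890999), (5709954, 28908121459475029309193591562997815),
  (6432416, 29413465902397246291897028471042423), (3216208, 13858692994544414546927238932139575),
  (6832158, 29424203338456361592292894023190583), (1608104, 21200959128333255214641258505024663),
  (402026, 26436202778137832547459526939490359), (804052, 3957113257631052712542648859822775),
  (4325622, 29352039325869664845734877654878263), (1127686, 5907464316899999344696516952655927),
  (3328320, 3473763158705975445061441542511127), (4744776, 29228975832192131840956821991966999),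
  (2491452, 25525039304699397647261516727159255), (2908802, 11252442262660800672727716350924855),
  (1245726, 17225281453758255096025682200856631), (4870480, 28773906478073681956665387647221047),
  (1664160, 19618927226321112559659072945299863), (2372388, 9963281037341694182915160421828983),
  (4409606, 29395921827946026794865043067537463), (6337856, 29415009036994604398546549813068919),
  (3375280, 25541498956642104225835441434478871), (1710664, 17631263872533949009519851202527383),
  (307594, 28170428107071812186148101034191927), (6455896, 29426185741165198772300465681047959),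
  (4921504, 28739677434254148131990668955624791), (1584464, 16211488914476476618173055970088055),
  (427666, 14849797058925137493372041867841591), (843820, 13640695473577106212603157010287159),
  (6365962, 29431608041748290049313847896018999), (1805314, 9437160506436232652817343441937463),
  (3698756, 15156794775984127812407954024958199), (337856, 28166109638943914996476167295383671),
  (5640752, 29354572152527177060123803174477015), (4253780, 29396036590405500570802076046821911),
  (6493202, 29419851208796717920785856211694647), (3154402, 24242657181295575104245789592210487),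
  (463064, 18622127190325874496707935820960055), (5514536, 28867041341496380132591091266473175),
  (3050016, 6060145480204035173653581800882615), (1090380, 22255090205352950815779023538456919),
  (4845570, 28688975162557404092936898107576375), (6949956, 29427998083924400345892949472119031),
  (290352, 19532260364317740159622684858522295), (919694, 13229977283479965048640866225326135),
  (4301220, 29312703359478866577084091578288279), (1217620, 10937853303359365461850915328231735),
  (3237906, 3473494195341025722031484854458423), (416040, 21031891374900343699909455052375127),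
  (1134148, 28178027828899651696815014629738999), (3322370, 4772174101484924448196333467805751),
  (4726026, 29171931033524210258733142741469239), (361272, 14377953481986657524444117050971383),
  (2890176, 17739009920735306807106826245014615), (4213932, 29396286391881037760695838120708663),
  (3179802, 16454558517126736704951404061631543), (4860434, 28765031667186678094764872527659063),
  (504864, 18268175374482588334305708763928183), (2377830, 26841533525534135245095896892344375),
  (5538256, 29110984592773736638968905211528375), (4403780, 28967537629192083749979030193571991),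
  (6344194, 29412351369541931878516261923475511), (1050548, 15724474786591596604555178139093495),
  (1728778, 12357829971409379973640193003590711), (314056, 5892261157378177643483248503928343),
  (2969648, 22931307528511835330235562813996375), (4261212, 28938665076611168234571049512044983),
  (1192108, 12113991665517618005008291731704279), (1594898, 11140892377341135304205636234230839),
  (2425238, 17748636814460552810030336378701879), (5621792, 28664415438004159340801258148877527),
  (21116, 9431930833736543338516033644366391), (668866, 14378465008837454492506652706886711),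
  (2738308, 26841993034573388406965175927081175), (5833010, 29273348587670521743633130556077111),
  (1351424, 5989235823820259689967313196876887), (7221256, 29421678405799338239686811283728887),
  (157028, 19982780501449371641641090241562743), (2201890, 4768033317780472160969611844208695),
  (5329044, 29029814717844442822563129901386167), (525274, 18268885760676964412397418621031479),
  (1484824, 11951472426275229638813468504202871), (7079696, 29425480884060970278599249142812119),
  (72588, 6660911685793738927453071563917911), (2654580, 22936375657939915861177890874099959),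
  (5785794, 28664874635216404053736110607717431), (4645632, 28845451977941790478600305974581879),
  (3951624, 3474137843239095046864297373325463), (208020, 1808051718579299771363338106669783),
  (2150610, 4762655274673149607123814307286071), (5249380, 29151410008423665672372674252769879),
  (608810, 10917768399247726260231983006336055), (4510744, 28608440897139072009359571328028343),
  (63108, 7181407356911446969101774119864983), (2296514, 13842828174020159589959134186392631),
  (692282, 28166698117550053177350451154237495), (4656648, 28817603283236056615061864368426231),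
  (4038912, 9964508726857631202868980007507511), (180636, 8176847169576495481438659873441975),
  (7473194, 29435013489047861476471824679286839), (567074, 18622561741318781027939800143056951),
  (4536592, 28854523491105362182008475499005015), (1445088, 1445699238166556450912223510565591),
  (2245426, 25536438262301059128512658484038711), (5409412, 29151532661125464260893821637134679),
  (2631052, 24224315703573419112672331864049879), (1405448, 22864201275089296081320955813665015),
  (4989254, 28848700245631865731357647764260919), (231532, 11130355471042598595764047174535639),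
  (2126890, 20332486855309844224833258579412023), (2757268, 7365828085171511209377016452483287),
  (4485344, 28883877603931312833195863318865559), (1525008, 15643069051353356479259190105710263),
  (6359604, 29427933797253467266725546400418231), (1164162, 25379241072501561465905243991124023),
  (4755660, 28619245331932138043527435810605751), (1009728, 15712037166746539447476293554841079),
  (2921478, 4758268162650955318617256527333431), (4243818, 29067609640018442543183627962926135),
  (3147996, 19050314590657809743906276326345335), (1675812, 9842818369913101136934474780707159),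
  (2409888, 17731087334379299448994559539429527), (5508118, 29151034614893663836938031157839927),
  (6308804, 29423494382232292802091177949137527), (1084018, 23918178083769712434620360278255671),
  (3739786, 20349091573542615053977272204761143), (280334, 24845578109244385367080640692979767),
  (926128, 28155295446494017472038345197900279), (6100032, 28948844618502962286216463385693367),
  (4294810, 29069299743691965950127404614792247), (3227948, 15156564187211339815387090711054903),
  (6820450, 29433089229398666248285093065366583), (421910, 21184326359540341300256793493145655),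
  (2460752, 12551347924398766213402335845586391), (792232, 3434840737416623761680398374001175),
  (4346506, 29182921867771703228355785177273399), (4731956, 29258133048785722153033824326978071),
  (1769924, 19537789347863103856603091956009655), (371206, 5408493937819673235579387068516407),
  (2512448, 21645949247975949260090366890456215), (4220306, 29303394226513556411288392923562039),
  (1265762, 23715631481993979412092670698392631), (3189796, 19050590426501853170451740721645879),
  (4850476, 28737137174700441273722620276214231), (2384216, 9958052022297635190927727335155031),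
  (1060490, 22295617893114418697366642319539255), (6979970, 29430545778075109486205499270895671),
  (1722420, 28178099544003410202651033216256119), (7612992, 29435344717495395150978220861995191),
  (951624, 3060884162497229114428174945606071), (4271202, 28946034224076574004482974933061687),
  (6475812, 29423617025262996122360935273760887), (1186194, 13655254267030198278037860231268407),
  (2435240, 11249708558038658926378593514798391), (832080, 15117508407112800457924638987696695),
  (31554, 24875981887444158271857804570871863), (2328324, 8642016763923730220212313933351575),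
  (5842956, 29151658617595822741813179505019031), (2019456, 21160399454309474896537580036428215),
  (150618, 9841590564348542769467437946606647), (2207772, 2158102515214927049902929001679575),
  (535268, 15628367237974898969861244034976439), (6703248, 29412250252341979739040142957171031),
  (1474854, 8463373356714737275754106265733175), (78514, 3060508655366542948936926139865143),
  (5375810, 29232584311241959018500413410688055), (742412, 23901064996094678853948583321897143),
  (2664522, 16434596807735631725312098114313271), (3539848, 17752677316903936656171223291630103),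
  (5024896, 28903208699105439498800372982550071), (198058, 15117220595309254733154197366224951),
  (5255258, 29191900318040295081701735214989367), (615188, 1426867465795953913266798422821591),
  (6750560, 29410942992229344470910687203671703), (3421328, 11262186832977396021973151050286551),
  (7345676, 29435584021840964361421339177880055), (702724, 8201186307468219257123257702386263),
  (2704706, 12556837608052206072478242164874295), (1315526, 7287309987501919540748045868599351),
  (5063048, 29104765565447740788172437298719031), (190626, 13361774566221828837325365514931255),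
  (2168036, 12538390792985324183616028378008183), (7479572, 29435054332390770812827795389188631),
  (560668, 23691902609993013530910936484907671), (4526126, 29174129899140919551332112391047223),
  (1852256, 1810980399412433136803756034733783), (104010, 28154726741720833674983506994909239),
  (2255372, 26841875743079587977750681435080887), (2624690, 22923696668546227618134230213204023),
  (5817604, 29029955367750096872603114631924023), (6656640, 29434394412773751724422352316961911),
  (4982904, 29249278071948819603796736402893463), (237906, 3434802727920268219734223682361399),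
  (2120980, 26841829770502016732325023104404055), (5280930, 28705321893602418108230547070952503),
  (3444840, 2175667668179693863887026477187799), (1903248, 19984019110013899519015137704985719)]

/-- the involutions `k` of trace -8 commuting with `t` with `k w` of order 11 -/
def KP : List (ℕ × ℕ) := [
  (7793628, 984818244535754528103549039458486304), (4189530, 984818244535754528103549039458486304),
  (7583582, 984818244535754528103549039458486304), (1441742, 984818244535754528103549039458486304),
  (8183582, 984818244535754528103549039458486304), (7728758, 984818244535754528103549039458486304),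
  (7854446, 984818244535754528103549039458486304), (2523006, 984818244535754528103549039458486304),
  (5766968, 984818244535754528103549039458486304), (4030138, 8666157483964500290736939434490935),
  (3655614, 24892481153451736533347280408906039), (7536302, 17184519787777121035013027289728087),
  (3655614, 17184519787777121035013027289728087), (5046012, 29396036590405500570802076046821911),
  (5241686, 29396036590405500570802076046821911), (4845570, 28688975162557404092936898107576375),
  (7270322, 28765031667186678094764872527659063), (8088382, 28765031667186678094764872527659063),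
  (8305274, 28765031667186678094764872527659063), (5930970, 28765031667186678094764872527659063),
  (7583582, 28967537629192083749979030193571991), (5731070, 28967537629192083749979030193571991),
  (7830934, 28854523491105362182008475499005015), (6667198, 28854523491105362182008475499005015)]

/-- the other involutions of trace -8 commuting with `t` -/
def KN : List (ℕ × ℕ) := [
  (8385418, 984818244535754528103549039458486304), (7028470, 984818244535754528103549039458486304),
  (8305274, 984818244535754528103549039458486304), (4451838, 984818244535754528103549039458486304),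
  (3896814, 984818244535754528103549039458486304), (8345458, 984818244535754528103549039458486304),
  (3715070, 984818244535754528103549039458486304), (7001086, 984818244535754528103549039458486304),
  (6280668, 984818244535754528103549039458486304), (4030138, 984818244535754528103549039458486304),
  (5046012, 984818244535754528103549039458486304), (8114118, 984818244535754528103549039458486304),
  (7993566, 984818244535754528103549039458486304), (7270322, 984818244535754528103549039458486304),
  (3652860, 984818244535754528103549039458486304), (2060276, 984818244535754528103549039458486304),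
  (8088382, 984818244535754528103549039458486304), (6813668, 984818244535754528103549039458486304),
  (8379060, 984818244535754528103549039458486304), (1826430, 984818244535754528103549039458486304),
  (8252844, 984818244535754528103549039458486304), (7665146, 984818244535754528103549039458486304),
  (8355404, 984818244535754528103549039458486304), (1030138, 984818244535754528103549039458486304),
  (7811050, 984818244535754528103549039458486304), (8271804, 984818244535754528103549039458486304),
  (6147066, 984818244535754528103549039458486304), (6290658, 984818244535754528103549039458486304),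
  (7536302, 984818244535754528103549039458486304), (8120056, 984818244535754528103549039458486304),
  (4060028, 984818244535754528103549039458486304), (5896118, 984818244535754528103549039458486304),
  (7311228, 984818244535754528103549039458486304), (6807258, 984818244535754528103549039458486304),
  (4135902, 984818244535754528103549039458486304), (8101306, 984818244535754528103549039458486304),
  (7170014, 984818244535754528103549039458486304), (7257550, 984818244535754528103549039458486304),
  (4177702, 984818244535754528103549039458486304), (6011884, 984818244535754528103549039458486304),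
  (7337022, 984818244535754528103549039458486304), (7430140, 984818244535754528103549039458486304),
  (4126422, 984818244535754528103549039458486304), (8364534, 984818244535754528103549039458486304),
  (8230638, 984818244535754528103549039458486304), (3005942, 984818244535754528103549039458486304),
  (5731070, 984818244535754528103549039458486304), (3140334, 984818244535754528103549039458486304),
  (5677046, 984818244535754528103549039458486304), (6946666, 984818244535754528103549039458486304),
  (8277246, 984818244535754528103549039458486304), (8158182, 984818244535754528103549039458486304),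
  (2030014, 984818244535754528103549039458486304), (8060276, 984818244535754528103549039458486304),
  (5241686, 984818244535754528103549039458486304), (2883484, 984818244535754528103549039458486304),
  (7305720, 984818244535754528103549039458486304), (5930970, 984818244535754528103549039458486304),
  (3655614, 984818244535754528103549039458486304), (5201838, 984818244535754528103549039458486304),
  (6667198, 984818244535754528103549039458486304), (4120552, 984818244535754528103549039458486304),
  (8241104, 984818244535754528103549039458486304), (6110590, 984818244535754528103549039458486304),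
  (6219630, 984818244535754528103549039458486304), (7830934, 984818244535754528103549039458486304),
  (3406834, 984818244535754528103549039458486304), (6270622, 984818244535754528103549039458486304),
  (3474978, 8666157483964500290736939434490935), (7811050, 8666157483964500290736939434490935),
  (8345458, 8666157483964500290736939434490935), (7728758, 8666157483964500290736939434490935),
  (3655614, 8666157483964500290736939434490935), (8230638, 8666157483964500290736939434490935),
  (4177702, 8666157483964500290736939434490935), (1410188, 24892481153451736533347280408906039),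
  (8252844, 24892481153451736533347280408906039), (3652860, 24892481153451736533347280408906039),
  (6280668, 24892481153451736533347280408906039), (6270622, 24892481153451736533347280408906039),
  (8230638, 24892481153451736533347280408906039), (1441742, 24892481153451736533347280408906039),
  (7536302, 16441686340434924356279569257433143), (2130606, 16441686340434924356279569257433143),
  (3715070, 16441686340434924356279569257433143), (7001086, 16441686340434924356279569257433143),
  (3655614, 16441686340434924356279569257433143), (6667198, 16441686340434924356279569257433143),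
  (8230638, 16441686340434924356279569257433143), (3140334, 16441686340434924356279569257433143),
  (596054, 17163484415615086638714852219684919), (1826430, 17163484415615086638714852219684919),
  (7993566, 17163484415615086638714852219684919), (7028470, 17163484415615086638714852219684919),
  (6110590, 17163484415615086638714852219684919), (5241686, 17163484415615086638714852219684919),
  (3005942, 17163484415615086638714852219684919), (4135902, 17163484415615086638714852219684919),
  (7536302, 15156273880260460269835907613493303), (3294342, 15156273880260460269835907613493303),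
  (8114118, 15156273880260460269835907613493303), (3896814, 15156273880260460269835907613493303),
  (7830934, 15156273880260460269835907613493303), (3655614, 15156273880260460269835907613493303),
  (8277246, 15156273880260460269835907613493303), (4126422, 15156273880260460269835907613493303),
  (8120056, 17184519787777121035013027289728087), (1826430, 17184519787777121035013027289728087),
  (1230376, 17184519787777121035013027289728087), (6219630, 17184519787777121035013027289728087),
  (5766968, 17184519787777121035013027289728087), (4120552, 17184519787777121035013027289728087),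
  (6807258, 28686203373708548986021328581206071), (6290658, 28686203373708548986021328581206071),
  (4626498, 28686203373708548986021328581206071), (8305274, 28686203373708548986021328581206071),
  (7854446, 28686203373708548986021328581206071), (5241686, 28686203373708548986021328581206071),
  (5677046, 28686203373708548986021328581206071), (7257550, 28686203373708548986021328581206071),
  (7665146, 8219904618265178018076044327765047), (6147066, 8219904618265178018076044327765047),
  (4030138, 8219904618265178018076044327765047), (1327290, 8219904618265178018076044327765047),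
  (2030014, 8219904618265178018076044327765047), (3655614, 8219904618265178018076044327765047),
  (5731070, 8219904618265178018076044327765047), (8277246, 8219904618265178018076044327765047),
  (8120056, 8647161565439825506735069782450775), (6807258, 8647161565439825506735069782450775),
  (4030138, 8647161565439825506735069782450775), (2180760, 8647161565439825506735069782450775),
  (2883484, 8647161565439825506735069782450775), (3655614, 8647161565439825506735069782450775),
  (7170014, 8647161565439825506735069782450775), (7430140, 8647161565439825506735069782450775),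
  (8379060, 29396325358846642421639194900498711), (8355404, 29396325358846642421639194900498711),
  (5046012, 29396325358846642421639194900498711), (5003780, 29396325358846642421639194900498711),
  (5241686, 29396325358846642421639194900498711), (5201838, 29396325358846642421639194900498711),
  (8183582, 29396325358846642421639194900498711), (8158182, 29396325358846642421639194900498711),
  (7311228, 28972912184802613892794942205642199), (6147066, 28972912184802613892794942205642199),
  (8114118, 28972912184802613892794942205642199), (4819776, 28972912184802613892794942205642199),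
  (8241104, 28972912184802613892794942205642199), (5241686, 28972912184802613892794942205642199),
  (6946666, 28972912184802613892794942205642199), (6011884, 28972912184802613892794942205642199),
  (7311228, 25525039304699397647261516727159255), (8271804, 25525039304699397647261516727159255),
  (3652860, 25525039304699397647261516727159255), (2491452, 25525039304699397647261516727159255),
  (2523006, 25525039304699397647261516727159255), (3655614, 25525039304699397647261516727159255),
  (8277246, 25525039304699397647261516727159255), (7337022, 25525039304699397647261516727159255),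
  (8345458, 28773906478073681956665387647221047), (4870480, 28773906478073681956665387647221047),
  (7001086, 28773906478073681956665387647221047), (6280668, 28773906478073681956665387647221047),
  (8060276, 28773906478073681956665387647221047), (5241686, 28773906478073681956665387647221047),
  (7305720, 28773906478073681956665387647221047), (5930970, 28773906478073681956665387647221047),
  (8120056, 25541498956642104225835441434478871), (8379060, 25541498956642104225835441434478871),
  (3652860, 25541498956642104225835441434478871), (3375280, 25541498956642104225835441434478871),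
  (3406834, 25541498956642104225835441434478871), (3655614, 25541498956642104225835441434478871),
  (8364534, 25541498956642104225835441434478871), (8101306, 25541498956642104225835441434478871),
  (7993566, 29396036590405500570802076046821911), (4451838, 29396036590405500570802076046821911),
  (7793628, 29396036590405500570802076046821911), (7728758, 29396036590405500570802076046821911),
  (4253780, 29396036590405500570802076046821911), (8060276, 29396036590405500570802076046821911),
  (5896118, 28688975162557404092936898107576375), (6290658, 28688975162557404092936898107576375),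
  (7993566, 28688975162557404092936898107576375), (8385418, 28688975162557404092936898107576375),
  (5241686, 28688975162557404092936898107576375), (6946666, 28688975162557404092936898107576375),
  (7337022, 28688975162557404092936898107576375), (7583582, 16454558517126736704951404061631543),
  (7665146, 16454558517126736704951404061631543), (4189530, 16454558517126736704951404061631543),
  (3715070, 16454558517126736704951404061631543), (3179802, 16454558517126736704951404061631543),
  (3655614, 16454558517126736704951404061631543), (8183582, 16454558517126736704951404061631543),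
  (8101306, 16454558517126736704951404061631543), (7028470, 28765031667186678094764872527659063),
  (4860434, 28765031667186678094764872527659063), (6270622, 28765031667186678094764872527659063),
  (5241686, 28765031667186678094764872527659063), (8355404, 28967537629192083749979030193571991),
  (6813668, 28967537629192083749979030193571991), (7028470, 28967537629192083749979030193571991),
  (4403780, 28967537629192083749979030193571991), (5241686, 28967537629192083749979030193571991),
  (6011884, 28967537629192083749979030193571991), (5896118, 15724474786591596604555178139093495),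
  (8271804, 15724474786591596604555178139093495), (2060276, 15724474786591596604555178139093495),
  (3715070, 15724474786591596604555178139093495), (1050548, 15724474786591596604555178139093495),
  (3655614, 15724474786591596604555178139093495), (5677046, 15724474786591596604555178139093495),
  (7430140, 15724474786591596604555178139093495), (8241104, 28854523491105362182008475499005015),
  (6110590, 28854523491105362182008475499005015), (5766968, 28854523491105362182008475499005015),
  (5241686, 28854523491105362182008475499005015), (7305720, 28854523491105362182008475499005015),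
  (4536592, 28854523491105362182008475499005015), (6110590, 28848700245631865731357647764260919),
  (6219630, 28848700245631865731357647764260919), (5241686, 28848700245631865731357647764260919),
  (4989254, 28848700245631865731357647764260919), (8364534, 28848700245631865731357647764260919),
  (8158182, 28848700245631865731357647764260919), (7170014, 28848700245631865731357647764260919),
  (7257550, 28848700245631865731357647764260919), (8355404, 15712037166746539447476293554841079),
  (6290658, 15712037166746539447476293554841079), (4189530, 15712037166746539447476293554841079),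
  (2060276, 15712037166746539447476293554841079), (5241686, 15712037166746539447476293554841079),
  (7305720, 15712037166746539447476293554841079), (1009728, 15712037166746539447476293554841079),
  (3140334, 15712037166746539447476293554841079), (8252844, 17731087334379299448994559539429527),
  (7665146, 17731087334379299448994559539429527), (7270322, 17731087334379299448994559539429527),
  (6813668, 17731087334379299448994559539429527), (3655614, 17731087334379299448994559539429527),
  (4120552, 17731087334379299448994559539429527), (2409888, 17731087334379299448994559539429527),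
  (3005942, 17731087334379299448994559539429527), (4060028, 15156564187211339815387090711054903),
  (8252844, 15156564187211339815387090711054903), (8088382, 15156564187211339815387090711054903),
  (3896814, 15156564187211339815387090711054903), (7854446, 15156564187211339815387090711054903),
  (3655614, 15156564187211339815387090711054903), (3227948, 15156564187211339815387090711054903),
  (7430140, 15156564187211339815387090711054903), (4060028, 15117508407112800457924638987696695),
  (1030138, 15117508407112800457924638987696695), (5046012, 15117508407112800457924638987696695),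
  (8305274, 15117508407112800457924638987696695), (8241104, 15117508407112800457924638987696695),
  (5241686, 15117508407112800457924638987696695), (832080, 15117508407112800457924638987696695),
  (4126422, 15117508407112800457924638987696695), (2523006, 24875981887444158271857804570871863),
  (3406834, 24875981887444158271857804570871863), (5241686, 24875981887444158271857804570871863),
  (5930970, 24875981887444158271857804570871863), (6946666, 24875981887444158271857804570871863),
  (8158182, 24875981887444158271857804570871863), (31554, 24875981887444158271857804570871863),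
  (1441742, 24875981887444158271857804570871863), (7811050, 17752677316903936656171223291630103),
  (8271804, 17752677316903936656171223291630103), (8385418, 17752677316903936656171223291630103),
  (7793628, 17752677316903936656171223291630103), (3655614, 17752677316903936656171223291630103),
  (4120552, 17752677316903936656171223291630103), (4135902, 17752677316903936656171223291630103),
  (3539848, 17752677316903936656171223291630103), (1030138, 15117220595309254733154197366224951),
  (7811050, 15117220595309254733154197366224951), (4451838, 15117220595309254733154197366224951),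
  (3896814, 15117220595309254733154197366224951), (3655614, 15117220595309254733154197366224951),
  (5201838, 15117220595309254733154197366224951), (8101306, 15117220595309254733154197366224951),
  (198058, 15117220595309254733154197366224951), (8060276, 8201186307468219257123257702386263),
  (2030014, 8201186307468219257123257702386263), (2883484, 8201186307468219257123257702386263),
  (5241686, 8201186307468219257123257702386263), (702724, 8201186307468219257123257702386263),
  (7257550, 8201186307468219257123257702386263), (6011884, 8201186307468219257123257702386263),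
  (4177702, 8201186307468219257123257702386263)]

/-- the matrix of `w` -/
def Wc : ℕ := 0x4000000080000000000000080000000000000000020000000000000020000000800000000004000800100020000000000080000000000000100000000000000000010000000000100020000000400000010004000800080000004000400000020004000800000010002000800080000002000800100000004000000100020000000000000010000000000100000000000000100000000000000100010000000800000020000000800000000004000400100000000000000100000004000000080000000000000000020000000000000020002000400000000004000400080000000000000080000000000800080000000000000000010004000000000010000000800000000004000400080000002000400000010004000400000020002000800100000004000400100000004000000100020000000000000020000000000100000000000000100000000000000080010000000400000020000000800000000004000400100000000000000100000000000000080000000000000000020000000000100010000000800000010002000400100000000000000080000000000000100000000000400000020000000000000020000000800100000002000400080000000000000080020000000000080020000000000000010000000000000020000000400000000002000400100000002000400000010004000800000020002000400080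00000200080008000000400000008001000000000000002000000000008000000000040008000000000000000001000200000000001000000080000000000400040008000000000000010002000000000010002000000000000002000000000000001000000080000000000400080008000000000040008000000000000010000000400000000002000000000000001000000040000000000400040010000000400040000001000200040000002000200080008000000400080008000000200000010001000000000000001000000000010000000200000008000000000000000002000000000000002000400040000000000400040008000000200040000002000200040000001000200040008000000400080010000000200000008002000000000000002000000000010000000000000008000000000040000001000000000000001000000040010000000400080010000000000080008000000000000010000000200000000002000000000000001000000040000000000400040010000000200080000002000400040000001000400080008000000400080008000000400000010001000000000000002000400040000002000400040000001000200040010000000400040008000000400000008001000000000000001000400080000001000400040000002000400040008000000400080010000000400000008002000000000000001000400000010000000000000010000000000000000001000000000000001000000040000000000200040008002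

end Cfsg.Agent.H663.ObCo2
end

-- part: H663/ObCo2Chk
section
/-!
# Kernel checks for `H663/ObCo2` (helper663)
-/

set_option autoImplicit false

namespace Cfsg.Agent.H663.ObCo2

open Cfsg Cfsg.Agent.SporadicA.GolayBase Cfsg.Agent.SporadicA.GolayPerm
open Cfsg.Agent.SporadicStructure.M24El
open Cfsg.Agent.Co2Type.Mono Cfsg.Agent.Co2Type.TGroup Cfsg.Agent.Co2Type.TData Cfsg.Agent.Co2Type.FactsD
open Cfsg.Agent.Co2Type.MatCodes
open Cfsg.Agent.Lib.PackMat Cfsg.Agent.SporRec.LeechMod3

/-! ### the list of the involutions -/

/-- all of them -/
def KL : List (ℕ × ℕ) := KP ++ KN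

/-- membership of a pair -/
def memP (m P : ℕ) : List (ℕ × ℕ) → Bool
  | [] => false
  | q :: l => (Nat.beq m q.1 && Nat.beq P q.2) || memP m P l

theorem memP_iff {m P : ℕ} {l : List (ℕ × ℕ)} : memP m P l = true ↔ (m, P) ∈ l := by
  induction l with
  | nil => simp [memP]
  | cons q l ih =>
    rw [memP, Bool.or_eq_true, ih, Bool.and_eq_true, List.mem_cons, Nat.beq_eq, Nat.beq_eq]
    obtain ⟨a, b⟩ := q
    rw [Prod.mk.injEq]

/-- no repetitions -/
def nodupP : List (ℕ × ℕ) → Bool
  | [] => true
  | q :: l => (!(memP q.1 q.2 l)) && nodupP l

theorem nodup_of {l : List (ℕ × ℕ)} (h : nodupP l = true) : l.Nodup := by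
  induction l with
  | nil => exact List.nodup_nil
  | cons q l ih =>
    rw [nodupP, Bool.and_eq_true] at h
    rw [List.nodup_cons]
    refine ⟨fun hq => ?_, ih h.2⟩
    have h1 := memP_iff.2 (show (q.1, q.2) ∈ l from hq)
    rw [h1] at h
    exact Bool.noConfusion h.1

private noncomputable def _root_.Cfsg.Agent.LsF.f99b1ff_0 : {f // @Cfsg.Agent.H663.ObCo2.memP = f} := ⟨_, by first | (delta Cfsg.Agent.H663.ObCo2.memP List.brecOn List.brecOn.go Cfsg.Agent.H663.ObCo2.memP._f; rewrite [Cfsg.Agent.LsF.and_eq, Cfsg.Agent.LsF.or_eq]; (try delta Cfsg.Agent.H663.ObCo2.memP.match_1); (try delta List.casesOn); first | dsimp -zeta only | exact rfl) | exact rfl⟩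
private noncomputable def _root_.Cfsg.Agent.LsF.f99b1ff_1 : {f // @Cfsg.Agent.H663.ObCo2.nodupP = f} := ⟨_, by first | (delta Cfsg.Agent.H663.ObCo2.nodupP List.brecOn List.brecOn.go Cfsg.Agent.H663.ObCo2.nodupP._f; rewrite [Cfsg.Agent.LsF.f99b1ff_0.2, Cfsg.Agent.LsF.and_eq, Cfsg.Agent.LsF.not_eq]; (try delta Cfsg.Agent.H663.ObCo2.memP.match_1); (try delta List.casesOn); first | dsimp -zeta only | exact rfl) | exact rfl⟩
private noncomputable def _root_.Cfsg.Agent.LsF.f99b1ff_2 : {f // @Cfsg.Agent.H663.ObCo2.KL = f} := ⟨_, by first | (delta Cfsg.Agent.H663.ObCo2.KL; rewrite [Cfsg.Agent.LsF.lappend_pat]; exact rfl) | exact rfl⟩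
theorem nodup_KL : KL.Nodup := nodup_of (by ((try (rewrite [Cfsg.Agent.LsF.f99b1ff_1.2, Cfsg.Agent.LsF.f99b1ff_2.2])); decide +kernel))

theorem length_KL : KL.length = 317 := by decide +kernel

theorem length_KP : KP.length = 24 := by decide +kernel

private noncomputable def _root_.Cfsg.Agent.LsF.f99b1ff_3 : {f // @Cfsg.Agent.Co2Type.TGroup.allSp = f} := ⟨_, by first | (delta Cfsg.Agent.Co2Type.TGroup.allSp List.brecOn List.brecOn.go Cfsg.Agent.Co2Type.TGroup.allSp._f; rewrite [Cfsg.Agent.LsF.and_eq]; (try delta Cfsg.Agent.Co2Type.TGroup.allSp.match_1); (try delta List.casesOn); first | dsimp -zeta only | exact rfl) | exact rfl⟩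
private noncomputable def _root_.Cfsg.Agent.LsF.f99b1ff_4 : {f // @Cfsg.Agent.SporadicA.GolayBase.popcount = f} := ⟨_, by first | (delta Cfsg.Agent.SporadicA.GolayBase.popcount; rewrite [Cfsg.Agent.LsF.nadd_pat, Cfsg.Agent.LsF.nmod_pat, Cfsg.Agent.LsF.nshr_pat]; exact rfl) | exact rfl⟩
/-- all octads avoiding the two points are in the list -/
theorem chkOct : allSp B10 (fun o => cond (Nat.beq (popcount o) 8) (octL.any fun q => Nat.beq q.1 o) true) 0 = true := by
  ((try (rewrite [Cfsg.Agent.LsF.f99b1ff_3.2, Cfsg.Agent.LsF.f99b1ff_4.2, Cfsg.Agent.LsF.cond_eq, Cfsg.Agent.LsF.any_eq])); decide +kernel)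

private noncomputable def _root_.Cfsg.Agent.LsF.f99b1ff_5 : {f // @Cfsg.Agent.SporadicA.GolayPerm.papp = f} := ⟨_, by first | (delta Cfsg.Agent.SporadicA.GolayPerm.papp; rewrite [Cfsg.Agent.LsF.nmul_pat, Cfsg.Agent.LsF.nmod_pat, Cfsg.Agent.LsF.nshr_pat]; exact rfl) | exact rfl⟩
private noncomputable def _root_.Cfsg.Agent.LsF.f99b1ff_6 : {f // @Cfsg.Agent.SporadicA.GolayPerm.pimg = f} := ⟨_, by first | (delta Cfsg.Agent.SporadicA.GolayPerm.pimg; rewrite [Cfsg.Agent.LsF.f99b1ff_5.2, Cfsg.Agent.LsF.nmod_pat, Cfsg.Agent.LsF.nxor_pat, Cfsg.Agent.LsF.nshl_pat, Cfsg.Agent.LsF.nshr_pat]; exact rfl) | exact rfl⟩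
private noncomputable def _root_.Cfsg.Agent.LsF.f99b1ff_7 : {f // @Cfsg.Agent.SporadicA.GolayPerm.isPerm = f} := ⟨_, by first | (delta Cfsg.Agent.SporadicA.GolayPerm.isPerm; rewrite [Cfsg.Agent.LsF.f99b1ff_6.2]; exact rfl) | exact rfl⟩
private noncomputable def _root_.Cfsg.Agent.LsF.f99b1ff_8 : {f // @Cfsg.Agent.SporadicA.GolayBase.enc = f} := ⟨_, by first | (delta Cfsg.Agent.SporadicA.GolayBase.enc; rewrite [Cfsg.Agent.LsF.nmul_pat, Cfsg.Agent.LsF.nmod_pat, Cfsg.Agent.LsF.nxor_pat, Cfsg.Agent.LsF.nshr_pat]; exact rfl) | exact rfl⟩
private noncomputable def _root_.Cfsg.Agent.LsF.f99b1ff_9 : {f // @Cfsg.Agent.SporadicA.GolayBase.isCode = f} := ⟨_, by first | (delta Cfsg.Agent.SporadicA.GolayBase.isCode; rewrite [Cfsg.Agent.LsF.f99b1ff_8.2]; exact rfl) | exact rfl⟩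
private noncomputable def _root_.Cfsg.Agent.LsF.f99b1ff_10 : {f // @Cfsg.Agent.SporadicA.GolayPerm.isAut = f} := ⟨_, by first | (delta Cfsg.Agent.SporadicA.GolayPerm.isAut; rewrite [Cfsg.Agent.LsF.f99b1ff_9.2, Cfsg.Agent.LsF.f99b1ff_6.2, Cfsg.Agent.LsF.and_eq]; exact rfl) | exact rfl⟩
private noncomputable def _root_.Cfsg.Agent.LsF.f99b1ff_11 : {f // @Cfsg.Agent.SporadicStructure.M24El.ok = f} := ⟨_, by first | (delta Cfsg.Agent.SporadicStructure.M24El.ok; rewrite [Cfsg.Agent.LsF.f99b1ff_7.2, Cfsg.Agent.LsF.f99b1ff_10.2, Cfsg.Agent.LsF.and_eq]; exact rfl) | exact rfl⟩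
private noncomputable def _root_.Cfsg.Agent.LsF.f99b1ff_12 : {f // @Cfsg.Agent.Co2Type.Mono.okP = f} := ⟨_, by first | (delta Cfsg.Agent.Co2Type.Mono.okP; rewrite [Cfsg.Agent.LsF.f99b1ff_11.2, Cfsg.Agent.LsF.f99b1ff_5.2, Cfsg.Agent.LsF.and_eq, Cfsg.Agent.LsF.or_eq]; exact rfl) | exact rfl⟩
private noncomputable def _root_.Cfsg.Agent.LsF.f99b1ff_13 : {f // @Cfsg.Agent.Co2Type.Mono.fixm = f} := ⟨_, by first | (delta Cfsg.Agent.Co2Type.Mono.fixm; rewrite [Cfsg.Agent.LsF.f99b1ff_5.2, Cfsg.Agent.LsF.nxor_pat, Cfsg.Agent.LsF.nshl_pat, Cfsg.Agent.LsF.foldr_eq, Cfsg.Agent.LsF.range_eq, Cfsg.Agent.LsF.dBoolEq_eq, Cfsg.Agent.LsF.ite_eq]; exact rfl) | exact rfl⟩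
/-- the permutations of the list -/
theorem chkOctP : (octL.all fun q => okP q.2 && (Nat.blt q.2 (2 ^ 120) && (Nat.beq (fixm q.2) q.1 &&
    Nat.beq (papp q.2 0) 23))) = true := by ((try (rewrite [Cfsg.Agent.LsF.f99b1ff_12.2, Cfsg.Agent.LsF.f99b1ff_13.2, Cfsg.Agent.LsF.f99b1ff_5.2, Cfsg.Agent.LsF.npow_pat, Cfsg.Agent.LsF.and_eq, Cfsg.Agent.LsF.all_eq])); decide +kernel)

theorem chkOctM : (octL.all fun q => cond (Nat.beq (pimg q.2 mv) mv) (allSp B10 (fun m =>
    cond (Nat.beq (Nat.land q.1 m) q.1) (cond (Nat.beq (pimg q.2 m) m) (memP m q.2 KL) true) true) 0) true) = true := by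
  ((try (rewrite [Cfsg.Agent.LsF.f99b1ff_6.2, Cfsg.Agent.LsF.f99b1ff_3.2, Cfsg.Agent.LsF.f99b1ff_0.2, Cfsg.Agent.LsF.f99b1ff_2.2, Cfsg.Agent.LsF.cond_eq, Cfsg.Agent.LsF.all_eq])); decide +kernel)

theorem chkId : allSp B10 (fun m => cond (Nat.beq (popcount m) 16) (memP m idP KL) true) 0 = true := by
  ((try (rewrite [Cfsg.Agent.LsF.f99b1ff_3.2, Cfsg.Agent.LsF.f99b1ff_4.2, Cfsg.Agent.LsF.f99b1ff_0.2, Cfsg.Agent.LsF.f99b1ff_2.2, Cfsg.Agent.LsF.cond_eq])); decide +kernel)

private noncomputable def _root_.Cfsg.Agent.LsF.f99b1ff_14 : {f // @Cfsg.Agent.Co2Type.Mono.inE = f} := ⟨_, by first | (delta Cfsg.Agent.Co2Type.Mono.inE; rewrite [Cfsg.Agent.LsF.f99b1ff_9.2, Cfsg.Agent.LsF.and_eq]; exact rfl) | exact rfl⟩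
private noncomputable def _root_.Cfsg.Agent.LsF.f99b1ff_15 : {f // @Cfsg.Agent.SporadicA.GolayPerm.pack = f} := ⟨_, by first | (delta Cfsg.Agent.SporadicA.GolayPerm.pack List.brecOn List.brecOn.go Cfsg.Agent.SporadicA.GolayPerm.pack._f; rewrite [Cfsg.Agent.LsF.nadd_pat, Cfsg.Agent.LsF.nmul_pat]; (try delta Cfsg.Agent.SporadicA.GolayPerm.pack.match_1); (try delta List.casesOn); first | dsimp -zeta only | exact rfl) | exact rfl⟩
private noncomputable def _root_.Cfsg.Agent.LsF.f99b1ff_16 : {f // @Cfsg.Agent.SporadicA.GolayPerm.pcomp = f} := ⟨_, by first | (delta Cfsg.Agent.SporadicA.GolayPerm.pcomp; rewrite [Cfsg.Agent.LsF.f99b1ff_15.2, Cfsg.Agent.LsF.f99b1ff_5.2]; exact rfl) | exact rfl⟩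
private noncomputable def _root_.Cfsg.Agent.LsF.f99b1ff_17 : {f // @Cfsg.Agent.Co2Type.FactsD.tA = f} := ⟨_, by first | (delta Cfsg.Agent.Co2Type.FactsD.tA; rewrite [Cfsg.Agent.LsF.f99b1ff_4.2, Cfsg.Agent.LsF.f99b1ff_13.2, Cfsg.Agent.LsF.nadd_pat, Cfsg.Agent.LsF.nmul_pat]; exact rfl) | exact rfl⟩
theorem chkK : (KL.all fun q => inE q.1 && (okP q.2 && (Nat.blt q.2 (2 ^ 120) && (Nat.beq (pimg q.2 mv) mv &&
    (Nat.beq (pimg q.2 q.1) q.1 && (Nat.beq (pcomp q.2 q.2) idP && tA q.1 q.2)))))) = true := by ((try (rewrite [Cfsg.Agent.LsF.f99b1ff_2.2, Cfsg.Agent.LsF.f99b1ff_14.2, Cfsg.Agent.LsF.f99b1ff_12.2, Cfsg.Agent.LsF.f99b1ff_6.2, Cfsg.Agent.LsF.f99b1ff_16.2, Cfsg.Agent.LsF.f99b1ff_17.2, Cfsg.Agent.LsF.npow_pat, Cfsg.Agent.LsF.and_eq, Cfsg.Agent.LsF.all_eq])); decide +kernel)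

end Cfsg.Agent.H663.ObCo2
end

-- part: H663/ObCo2Run
section
/-!
# Orders of the products with `w` (helper663)
-/

set_option autoImplicit false

namespace Cfsg.Agent.H663.ObCo2

open Cfsg Cfsg.Agent.SporadicA.GolayBase Cfsg.Agent.SporadicA.GolayPerm
open Cfsg.Agent.SporadicStructure.M24El
open Cfsg.Agent.Co2Type.Mono Cfsg.Agent.Co2Type.TGroup Cfsg.Agent.Co2Type.TData Cfsg.Agent.Co2Type.FactsD
open Cfsg.Agent.Co2Type.MatCodes
open Cfsg.Agent.Lib.PackMat Cfsg.Agent.SporRec.LeechMod3

/-- the word `(G w) ^ 11` -/
def wd (G : ℕ) : List ℕ := [G, Wc, G, Wc, G, Wc, G, Wc, G, Wc, G, Wc, G, Wc, G, Wc, G, Wc, G, Wc, G, Wc]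

/-- `(k w) ^ 11` moves the first unit row -/
noncomputable def chkN (l : List (ℕ × ℕ)) : Bool :=
  withC cfg fun _ p r m t nf GM FM LO HI HT => force (unitRow cfg 1 0) fun R0 =>
    l.all fun q => force (monG q.1 q.2) fun G => bif okG cfg G then
      !(Nat.beq (runK p r m t nf GM FM LO HI HT (wd G) R0) R0) else false

private theorem frc_eq {α : Type} (e : ℕ) (k : ℕ → α) : force e k = k e := (force_eq e k).trans rfl

theorem chkN_spec {l : List (ℕ × ℕ)} (h : chkN l = true) : ∀ q ∈ l, okG cfg (monG q.1 q.2) = true ∧
    run cfg (wd (monG q.1 q.2)) (unitRow cfg 1 0) ≠ unitRow cfg 1 0 := by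
  intro q hq
  unfold chkN withC at h
  simp only [frc_eq] at h
  have h1 := List.all_eq_true.1 h q hq
  cases hb : okG cfg (monG q.1 q.2) with
  | false => rw [hb] at h1; exact absurd h1 (by simp)
  | true =>
    rw [hb, cond_true] at h1
    refine ⟨rfl, fun h2 => ?_⟩
    change (!(Nat.beq (run cfg (wd (monG q.1 q.2)) (unitRow cfg 1 0)) (unitRow cfg 1 0))) = true at h1
    rw [h2, Nat.beq_refl] at h1
    exact Bool.noConfusion h1

/-- `(k w) ^ 11 = 1` -/
noncomputable def chkPos (l : List (ℕ × ℕ)) : Bool :=
  l.all fun q => force (monG q.1 q.2) fun G => bif okG cfg G then checkEq cfg (wd G) [] 0 24 else false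

theorem chkPos_spec {l : List (ℕ × ℕ)} (h : chkPos l = true) : ∀ q ∈ l, okG cfg (monG q.1 q.2) = true ∧
    checkEq cfg (wd (monG q.1 q.2)) [] 0 24 = true := by
  intro q hq
  unfold chkPos at h
  simp only [frc_eq] at h
  have h1 := List.all_eq_true.1 h q hq
  cases hb : okG cfg (monG q.1 q.2) with
  | false => rw [hb] at h1; exact absurd h1 (by simp)
  | true =>
    rw [hb, cond_true] at h1
    exact ⟨rfl, h1⟩

theorem okW : okG cfg Wc = true := by decide +kernel

private noncomputable def _root_.Cfsg.Agent.LsF.f99b1ff_18 : {f // @Cfsg.Agent.Lib.PackMat.rep = f} := ⟨_, by first | (delta Cfsg.Agent.Lib.PackMat.rep; rewrite [Cfsg.Agent.LsF.nmul_pat, Cfsg.Agent.LsF.nsub_pat, Cfsg.Agent.LsF.ndiv_pat, Cfsg.Agent.LsF.npow_pat]; exact rfl) | exact rfl⟩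
private noncomputable def _root_.Cfsg.Agent.LsF.f99b1ff_19 : {f // @Cfsg.Agent.Lib.PackMat.gmask = f} := ⟨_, by first | (delta Cfsg.Agent.Lib.PackMat.gmask; rewrite [Cfsg.Agent.LsF.f99b1ff_18.2, Cfsg.Agent.LsF.nmul_pat, Cfsg.Agent.LsF.nsub_pat, Cfsg.Agent.LsF.npow_pat]; exact rfl) | exact rfl⟩
private noncomputable def _root_.Cfsg.Agent.LsF.f99b1ff_20 : {f // @Cfsg.Agent.Lib.PackMat.GMc = f} := ⟨_, by first | (delta Cfsg.Agent.Lib.PackMat.GMc; rewrite [Cfsg.Agent.LsF.f99b1ff_19.2]; exact rfl) | exact rfl⟩
private noncomputable def _root_.Cfsg.Agent.LsF.f99b1ff_21 : {f // @Cfsg.Agent.Lib.PackMat.FMc = f} := ⟨_, by first | (delta Cfsg.Agent.Lib.PackMat.FMc; rewrite [Cfsg.Agent.LsF.nadd_pat, Cfsg.Agent.LsF.nmul_pat, Cfsg.Agent.LsF.nsub_pat, Cfsg.Agent.LsF.npow_pat]; exact rfl) | exact rfl⟩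
private noncomputable def _root_.Cfsg.Agent.LsF.f99b1ff_22 : {f // @Cfsg.Agent.Lib.PackMat.LOc = f} := ⟨_, by first | (delta Cfsg.Agent.Lib.PackMat.LOc; rewrite [Cfsg.Agent.LsF.f99b1ff_18.2, Cfsg.Agent.LsF.nmul_pat, Cfsg.Agent.LsF.nsub_pat, Cfsg.Agent.LsF.npow_pat]; exact rfl) | exact rfl⟩
private noncomputable def _root_.Cfsg.Agent.LsF.f99b1ff_23 : {f // @Cfsg.Agent.Lib.PackMat.HIc = f} := ⟨_, by first | (delta Cfsg.Agent.Lib.PackMat.HIc; rewrite [Cfsg.Agent.LsF.f99b1ff_18.2, Cfsg.Agent.LsF.nmul_pat, Cfsg.Agent.LsF.nsub_pat, Cfsg.Agent.LsF.npow_pat]; exact rfl) | exact rfl⟩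
private noncomputable def _root_.Cfsg.Agent.LsF.f99b1ff_24 : {f // @Cfsg.Agent.Lib.PackMat.HTc = f} := ⟨_, by first | (delta Cfsg.Agent.Lib.PackMat.HTc; rewrite [Cfsg.Agent.LsF.f99b1ff_18.2, Cfsg.Agent.LsF.nmul_pat, Cfsg.Agent.LsF.nsub_pat, Cfsg.Agent.LsF.npow_pat]; exact rfl) | exact rfl⟩
private noncomputable def _root_.Cfsg.Agent.LsF.f99b1ff_25 : {f // @Cfsg.Agent.Lib.PackMat.withC = f} := ⟨_, by first | (delta Cfsg.Agent.Lib.PackMat.withC; rewrite [Cfsg.Agent.LsF.f99b1ff_20.2, Cfsg.Agent.LsF.f99b1ff_21.2, Cfsg.Agent.LsF.f99b1ff_22.2, Cfsg.Agent.LsF.f99b1ff_23.2, Cfsg.Agent.LsF.f99b1ff_24.2]; exact rfl) | exact rfl⟩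
private noncomputable def _root_.Cfsg.Agent.LsF.f99b1ff_26 : {f // @Cfsg.Agent.Lib.PackMat.unitRow = f} := ⟨_, by first | (delta Cfsg.Agent.Lib.PackMat.unitRow; rewrite [Cfsg.Agent.LsF.nmul_pat, Cfsg.Agent.LsF.nsub_pat, Cfsg.Agent.LsF.npow_pat]; exact rfl) | exact rfl⟩
private noncomputable def _root_.Cfsg.Agent.LsF.f99b1ff_27 : {f // @Cfsg.Agent.H663.ObCo2.monC = f} := ⟨_, by first | (delta Cfsg.Agent.H663.ObCo2.monC; rewrite [Cfsg.Agent.LsF.f99b1ff_5.2, Cfsg.Agent.LsF.nadd_pat, Cfsg.Agent.LsF.nmod_pat, Cfsg.Agent.LsF.nshr_pat]; exact rfl) | exact rfl⟩
private noncomputable def _root_.Cfsg.Agent.LsF.f99b1ff_28 : {f // @Cfsg.Agent.H663.ObCo2.monG = f} := ⟨_, by first | (delta Cfsg.Agent.H663.ObCo2.monG; rewrite [Cfsg.Agent.LsF.f99b1ff_27.2, Cfsg.Agent.LsF.f99b1ff_5.2, Cfsg.Agent.LsF.nadd_pat, Cfsg.Agent.LsF.nmul_pat, Cfsg.Agent.LsF.nshl_pat, Cfsg.Agent.LsF.foldr_eq, Cfsg.Agent.LsF.range_eq]; exact rfl) | exact rfl⟩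
private noncomputable def _root_.Cfsg.Agent.LsF.f99b1ff_29 : {f // @Cfsg.Agent.Lib.PackMat.okG = f} := ⟨_, by first | (delta Cfsg.Agent.Lib.PackMat.okG; rewrite [Cfsg.Agent.LsF.f99b1ff_18.2, Cfsg.Agent.LsF.nmul_pat, Cfsg.Agent.LsF.nsub_pat, Cfsg.Agent.LsF.npow_pat]; exact rfl) | exact rfl⟩
private noncomputable def _root_.Cfsg.Agent.LsF.f99b1ff_30 : {f // @Cfsg.Agent.Lib.PackMat.foldK = f} := ⟨_, by first | (delta Cfsg.Agent.Lib.PackMat.foldK Nat.brecOn.go Nat.brecOn Cfsg.Agent.Lib.PackMat.foldK._f; (try delta Cfsg.Agent.Lib.PackMat.foldBoundIter.match_1); (try delta Nat.casesOn); first | dsimp -zeta only | exact rfl) | exact rfl⟩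
private noncomputable def _root_.Cfsg.Agent.LsF.f99b1ff_31 : {f // @Cfsg.Agent.Lib.PackMat.stepK = f} := ⟨_, by first | (delta Cfsg.Agent.Lib.PackMat.stepK; rewrite [Cfsg.Agent.LsF.f99b1ff_30.2]; exact rfl) | exact rfl⟩
private noncomputable def _root_.Cfsg.Agent.LsF.f99b1ff_32 : {f // @Cfsg.Agent.Lib.PackMat.runK = f} := ⟨_, by first | (delta Cfsg.Agent.Lib.PackMat.runK List.brecOn List.brecOn.go Cfsg.Agent.Lib.PackMat.runK._f; rewrite [Cfsg.Agent.LsF.f99b1ff_31.2]; (try delta Cfsg.Agent.Lib.PackMat.runK.match_1); (try delta List.casesOn); first | dsimp -zeta only | exact rfl) | exact rfl⟩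
private noncomputable def _root_.Cfsg.Agent.LsF.f99b1ff_33 : {f // @Cfsg.Agent.H663.ObCo2.chkN = f} := ⟨_, by first | (delta Cfsg.Agent.H663.ObCo2.chkN; rewrite [Cfsg.Agent.LsF.f99b1ff_25.2, Cfsg.Agent.LsF.f99b1ff_26.2, Cfsg.Agent.LsF.f99b1ff_28.2, Cfsg.Agent.LsF.f99b1ff_29.2, Cfsg.Agent.LsF.f99b1ff_32.2, Cfsg.Agent.LsF.not_eq, Cfsg.Agent.LsF.cond_eq, Cfsg.Agent.LsF.all_eq]; exact rfl) | exact rfl⟩
theorem chkKN : chkN KN = true := by ((try (rewrite [Cfsg.Agent.LsF.f99b1ff_33.2])); decide +kernel)

private noncomputable def _root_.Cfsg.Agent.LsF.f99b1ff_34 : {f // @Cfsg.Agent.Lib.PackMat.checkEqK = f} := ⟨_, by first | (delta Cfsg.Agent.Lib.PackMat.checkEqK Cfsg.Agent.Lib.PackMat.checkEqK._f Nat.brecOn.go Nat.brecOn; rewrite [Cfsg.Agent.LsF.f99b1ff_32.2, Cfsg.Agent.LsF.cond_eq]; (try delta Cfsg.Agent.Lib.PackMat.foldBoundIter.match_1); (try delta Nat.casesOn); first | dsimp -zeta only | exact rfl) | exact rfl⟩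
private noncomputable def _root_.Cfsg.Agent.LsF.f99b1ff_35 : {f // @Cfsg.Agent.Lib.PackMat.checkEq = f} := ⟨_, by first | (delta Cfsg.Agent.Lib.PackMat.checkEq; rewrite [Cfsg.Agent.LsF.f99b1ff_25.2, Cfsg.Agent.LsF.f99b1ff_26.2, Cfsg.Agent.LsF.f99b1ff_34.2, Cfsg.Agent.LsF.nadd_pat, Cfsg.Agent.LsF.cond_eq]; exact rfl) | exact rfl⟩
private noncomputable def _root_.Cfsg.Agent.LsF.f99b1ff_36 : {f // @Cfsg.Agent.H663.ObCo2.chkPos = f} := ⟨_, by first | (delta Cfsg.Agent.H663.ObCo2.chkPos; rewrite [Cfsg.Agent.LsF.f99b1ff_28.2, Cfsg.Agent.LsF.f99b1ff_29.2, Cfsg.Agent.LsF.f99b1ff_35.2, Cfsg.Agent.LsF.cond_eq, Cfsg.Agent.LsF.all_eq]; exact rfl) | exact rfl⟩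
theorem chkKP : chkPos KP = true := by ((try (rewrite [Cfsg.Agent.LsF.f99b1ff_36.2])); decide +kernel)

/-- the code of `t` -/
theorem okT : okG cfg (monG mv idP) = true := by decide +kernel

theorem chkW : checkEq cfg [monG mv idP, cD0, cD4, cHh, monG mv idP, cHh, cD4, cD0] [Wc] 0 24 = true := by
  decide +kernel

theorem chkS : checkEq cfg [cD0, cD4, cHh, monG mv idP, cHh, cD4, cD0, cD0, cD4, cHh, monG mv idP, cHh, cD4, cD0] [] 0 24 =
    true := by decide +kernel

theorem chkW11 : checkEq cfg [Wc, Wc, Wc, Wc, Wc, Wc, Wc, Wc, Wc, Wc, Wc] [] 0 24 = true := by decide +kernel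

theorem chkW1 : Nat.beq (run cfg [Wc] (unitRow cfg 1 0)) (unitRow cfg 1 0) = false := by decide +kernel

end Cfsg.Agent.H663.ObCo2
end

-- part: H663/ObCo2Enum
section
/-!
# The involutions of trace -8 of `Co2` commuting with a 2C-involution (helper663)
-/

set_option autoImplicit false

namespace Cfsg.Agent.H663.ObCo2

open Cfsg Cfsg.Agent.SporadicA.GolayBase Cfsg.Agent.SporadicA.GolayPerm
open Cfsg.Agent.SporadicStructure.M24El
open Cfsg.Agent.Co2Type.Mono Cfsg.Agent.Co2Type.TGroup Cfsg.Agent.Co2Type.TData Cfsg.Agent.Co2Type.FactsD
open Cfsg.Agent.SporadicA.OctadFix (existsUnique_fixOct mem_fixOct)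

theorem fixm_lt (P : ℕ) : fixm P < 2 ^ 24 := by
  apply Nat.lt_pow_two_of_testBit
  intro j hj
  unfold fixm
  rw [testBit_fixm_aux P _ List.nodup_range, decide_eq_false (by rw [List.mem_range]; omega), Bool.false_and]

theorem el_fix_iff {P : ℕ} (hP : ok P = true) (p : GolayPt) :
    (el P : Equiv.Perm GolayPt) p = p ↔ p ∈ fin (fixm P) := by
  rw [mem_fin, testBit_fixm P (idx_lt p), decide_eq_true_iff, coe_el hP, ← idx_permOf (ok_iff.1 hP).1]
  exact ⟨fun h => by rw [h], fun h => idx_injective h⟩

theorem popcount_zero : popcount 0 = 0 := by decide +kernel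

theorem lt24_of_inE {m : ℕ} (h : inE m = true) : m < 2 ^ 24 := isCode_lt (isCode_of_inE h)

/-- the fixed points of a nontrivial involutive permutation -/
theorem fix_case {Q : ℕ} (hQ : okP Q = true) (hlt : Q < 2 ^ 120) (hQQ : pcomp Q Q = idP) (hne : Q ≠ idP)
    (hf : popcount (fixm Q) ≠ 0) : isCode (fixm Q) = true ∧ popcount (fixm Q) = 8 := by
  have hok := ok_of_okP hQ
  have h1 : ((el Q : M24) : Equiv.Perm GolayPt) * (el Q : M24) = 1 := by
    have h2 : el Q * el Q = 1 := by rw [← el_pcomp hok hok, hQQ, el_idP]
    rw [← Subgroup.coe_mul, h2, Subgroup.coe_one]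
  have h2 : ((el Q : M24) : Equiv.Perm GolayPt) ≠ 1 := by
    intro h
    apply hne
    apply el_inj hok ok_idP hlt idP_lt
    rw [el_idP]
    exact Subtype.ext h
  obtain ⟨p₀, hp₀⟩ : ∃ p₀, (el Q : Equiv.Perm GolayPt) p₀ = p₀ := by
    by_contra hcon
    push Not at hcon
    apply hf
    rw [← card_fin, Finset.card_eq_zero]
    ext p
    rw [← el_fix_iff hok]
    simp [hcon p]
  obtain ⟨O, hO, hx⟩ := Cfsg.Agent.J4Type.DuadM24.fix_octad (el Q).2 h1 h2 hp₀
  have h3 : O = fin (fixm Q) := by
    ext p
    rw [← hx, el_fix_iff hok]
  rw [h3] at hO
  exact (fin_mem_octads_iff (fixm_lt Q)).1 hO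

/-- **Enumeration.** -/
theorem mem_KL {k : Spor.Co2} (h2 : k * k = 1) (ht : tr k = -8) (hc : k * ge mv = ge mv * k) :
    ∃ q ∈ KL, k = mo2 q.1 q.2 := by
  obtain ⟨m, Q, hm, hQ, hlt, rfl⟩ := Cfsg.Agent.SevenCases.Co2V.exists_mo2 hc
  have hpm := (ok_iff.1 (ok_of_okP hQ)).1
  -- `Q` preserves the dodecad
  have hmv : pimg Q mv = mv := by
    unfold ge at hc
    rw [mo2_conj_E hm iv hQ hlt] at hc
    have h3 := mul_right_cancel hc
    exact (mo2_inj (inE_pimg hQ iv) iv okP_idP okP_idP idP_lt idP_lt h3).1
  -- square
  have hsq : pimg Q m = m ∧ pcomp Q Q = idP := by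
    rw [mo2_mul hm hm hQ hQ, ← mo2_one] at h2
    have h3 := mo2_inj (inE_xor hm (inE_pimg hQ hm)) inE_zero (okP_pcomp hQ hQ) okP_idP (pcomp_lt _ _) idP_lt h2
    exact ⟨(Nat.xor_eq_zero_iff.1 h3.1).symm, h3.2⟩
  -- trace
  rw [tr_mo2 hm hQ] at ht
  unfold trN at ht
  by_cases hid : Q = idP
  · subst hid
    have h16 : popcount m = 16 := by
      have h4 : fixm idP = 16777215 := by decide +kernel
      have h5 : popcount 16777215 = 24 := by decide +kernel
      have h6 : (16777215 : ℕ) &&& m = m := by
        have h7 := lt24_of_inE hm
        rw [Nat.and_comm, show (16777215 : ℕ) = 2 ^ 24 - 1 by norm_num, Nat.and_two_pow_sub_one_of_lt_two_pow h7]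
      rw [h4, h5, h6] at ht
      omega
    have h5 := allSp_zero chkId (sp_B10 hm)
    rw [h16] at h5
    rw [show Nat.beq 16 16 = true from rfl, cond_true] at h5
    exact ⟨(m, idP), memP_iff.1 h5, rfl⟩
  · have hf : popcount (fixm Q) ≠ 0 := by
      intro h0
      have h4 : fixm Q = 0 := by
        apply fin_injective (fixm_lt Q) (by norm_num)
        have h5 : (fin (fixm Q)).card = 0 := by rw [card_fin, h0]
        have h6 : (fin 0).card = 0 := by rw [card_fin, popcount_zero]
        rw [Finset.card_eq_zero.1 h5, Finset.card_eq_zero.1 h6]
      rw [h4, Nat.zero_and, popcount_zero] at ht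
      omega
    obtain ⟨hcode, h8⟩ := fix_case hQ hlt hsq.2 hid hf
    set o := fixm Q with ho
    have hand : o &&& m = o := by
      apply fin_injective (Nat.and_lt_two_pow _ (lt24_of_inE hm)) (fixm_lt Q)
      rw [fin_and]
      apply Finset.eq_of_subset_of_card_le Finset.inter_subset_left
      rw [← fin_and, card_fin, card_fin]
      omega
    have hb : ∀ i, m.testBit i = false → o.testBit i = false := by
      intro i hi
      rw [← hand, Nat.testBit_and, hi, Bool.and_false]
    have hmE := inE_iff.1 hm
    have ho0 : o.testBit 0 = false := hb 0 hmE.2.1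
    have ho23 : o.testBit 23 = false := hb 23 hmE.2.2
    have hoE : inE o = true := inE_iff.2 ⟨hcode, ho0, ho23⟩
    have h023 : papp Q 0 = 23 := by
      rcases (okP_iff.1 hQ).2 with h | h
      · exfalso
        have h5 := testBit_fixm Q (show 0 < 24 by norm_num)
        rw [h.1] at h5
        rw [ho] at ho0
        rw [h5] at ho0
        exact absurd ho0 (by simp)
      · exact h.1
    -- the entry of the list
    have h5 := allSp_zero chkOct (sp_B10 hoE)
    rw [h8, show Nat.beq 8 8 = true from rfl, cond_true] at h5
    obtain ⟨q, hq, hqo⟩ := List.any_eq_true.1 h5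
    replace hqo := Nat.eq_of_beq_eq_true hqo
    have h6 := List.all_eq_true.1 chkOctP q hq
    simp only [Bool.and_eq_true, Nat.blt_eq, Nat.beq_eq] at h6
    obtain ⟨k1, k2, k3, k4⟩ := h6
    have hokq := ok_of_okP k1
    have hokQ := ok_of_okP hQ
    have hO : fin o ∈ octads := (fin_mem_octads_iff (fixm_lt Q)).2 ⟨hcode, h8⟩
    have hp0 : pt 0 ∉ fin o := by
      rw [mem_fin, idx_pt (by norm_num), ho0]; simp
    have hp23 : pt 23 ∉ fin o := by
      rw [mem_fin, idx_pt (by norm_num), ho23]; simp
    have key : ∀ P : ℕ, ok P = true → fixm P = o → papp P 0 = 23 →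
        ((el P : Equiv.Perm GolayPt) ∈ Cfsg.Agent.SporadicA.OctadFix.fixOct (fin o) ∧
          (el P : Equiv.Perm GolayPt) (pt 0) = pt 23) := by
      intro P hP hfx h0
      refine ⟨mem_fixOct.2 ⟨(el P).2, fun x hx => ?_⟩, ?_⟩
      · rw [el_fix_iff hP, hfx]
        exact hx
      · rw [coe_el hP, permOf_apply, idx_pt (by norm_num), h0]
    have hPQ : q.2 = Q := by
      apply el_inj hokq hokQ k2 hlt
      apply Subtype.ext
      exact (existsUnique_fixOct hO hp0 hp23).unique (key _ hokq (k3.trans hqo) k4) (key _ hokQ rfl h023)
    have h7 := List.all_eq_true.1 chkOctM q hq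
    rw [hPQ, hmv, Nat.beq_refl, cond_true] at h7
    have h8' := allSp_zero h7 (sp_B10 hm)
    rw [hqo, show Nat.land o m = o &&& m from rfl, hand, Nat.beq_refl, cond_true, hsq.1, Nat.beq_refl, cond_true] at h8'
    exact ⟨(m, Q), memP_iff.1 h8', rfl⟩

theorem KL_spec {q : ℕ × ℕ} (hq : q ∈ KL) : inE q.1 = true ∧ okP q.2 = true ∧ q.2 < 2 ^ 120 ∧
    mo2 q.1 q.2 * mo2 q.1 q.2 = 1 ∧ tr (mo2 q.1 q.2) = -8 ∧ mo2 q.1 q.2 * ge mv = ge mv * mo2 q.1 q.2 := by
  have h6 := List.all_eq_true.1 chkK q hq
  simp only [Bool.and_eq_true, Nat.blt_eq, Nat.beq_eq] at h6
  obtain ⟨k1, k2, k3, k4, k5, k6, k7⟩ := h6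
  refine ⟨k1, k2, k3, ?_, ?_, ?_⟩
  · rw [mo2_mul k1 k1 k2 k2, k5, k6, Nat.xor_self, mo2_one]
  · rw [tr_mo2 k1 k2]
    exact tA_iff.1 k7
  · unfold ge
    rw [mo2_conj_E k1 iv k2 k3, k4]

/-- the element of a pair -/
noncomputable def mq (q : ℕ × ℕ) : Spor.Co2 := mo2 q.1 q.2

theorem mq_inj {p q : ℕ × ℕ} (hp : p ∈ KL) (hq : q ∈ KL) (h : mq p = mq q) : p = q := by
  obtain ⟨a1, a2, a3, -⟩ := KL_spec hp
  obtain ⟨b1, b2, b3, -⟩ := KL_spec hq
  have h1 := mo2_inj a1 b1 a2 b2 a3 b3 h
  exact Prod.ext h1.1 h1.2

open Classical in
theorem card_image {l : List (ℕ × ℕ)} (hl : l ⊆ KL) (hn : l.Nodup) :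
    Nat.card {k : Spor.Co2 // ∃ q ∈ l, k = mq q} = l.length := by
  have h1 : ∀ k : Spor.Co2, (∃ q ∈ l, k = mq q) ↔ k ∈ (l.map mq).toFinset := by
    intro k
    rw [List.mem_toFinset, List.mem_map]
    exact ⟨fun ⟨q, h, e⟩ => ⟨q, h, e.symm⟩, fun ⟨q, h, e⟩ => ⟨q, h, e.symm⟩⟩
  rw [Nat.card_congr (Equiv.subtypeEquivRight h1), Nat.card_eq_fintype_card, Fintype.card_coe,
    List.toFinset_card_of_nodup, List.length_map]
  exact (List.nodup_map_iff_inj_on hn).2 fun x hx y hy h => mq_inj (hl hx) (hl hy) h

/-- the number of involutions of trace -8 commuting with `t` -/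
theorem card_K : Nat.card {k : Spor.Co2 // (k * k = 1 ∧ tr k = -8) ∧ k * ge mv = ge mv * k} = 317 := by
  rw [← length_KL, ← card_image (List.Subset.refl KL) nodup_KL]
  refine Nat.card_congr (Equiv.subtypeEquivRight fun k => ?_)
  constructor
  · rintro ⟨⟨h1, h2⟩, h3⟩
    exact mem_KL h1 h2 h3
  · rintro ⟨q, hq, rfl⟩
    obtain ⟨-, -, -, h1, h2, h3⟩ := KL_spec hq
    exact ⟨⟨h1, h2⟩, h3⟩

end Cfsg.Agent.H663.ObCo2
end

-- part: H663/ObCo2
section
/-!
# `Co2` has more than one 2-block (helper663)

The parity criterion `NB.of_count'` with `r = 11`, `t` a 2C-involution with monomial centralizer, `K` the involutions of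
trace -8 (class 2A) and `w = t s` of order 11, `s` a conjugate of `t`: `t` commutes with 317 elements `k` of `K`, and `k w`
has order 11 for 24 of them.
-/

set_option autoImplicit false

namespace Cfsg.Agent.H663.ObCo2

open Cfsg Cfsg.Agent.SporadicA.GolayBase Cfsg.Agent.SporadicA.GolayPerm
open Cfsg.Agent.SporadicStructure.M24El
open Cfsg.Agent.Co2Type.Mono Cfsg.Agent.Co2Type.TGroup Cfsg.Agent.Co2Type.TData Cfsg.Agent.Co2Type.FactsD
open Cfsg.Agent.Co2Type.MatCodes
open Cfsg.Agent.Lib.PackMat Cfsg.Agent.SporRec.LeechMod3
open Cfsg.Agent.Co2Type.Co2El (good_el ok_Cs el_smul Cs)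
open Cfsg.Agent.H526.OB

universe u

/-! ### products of literal lists, in any monoid (so that no matrix is unfolded in the kernel) -/

theorem prod22 {M : Type*} [Monoid M] (a b : M) :
    [a, b, a, b, a, b, a, b, a, b, a, b, a, b, a, b, a, b, a, b, a, b].prod = (a * b) ^ 11 := by
  simp only [List.prod_cons, List.prod_nil, mul_one, pow_succ', pow_zero, mul_assoc]

theorem prod11 {M : Type*} [Monoid M] (a : M) : [a, a, a, a, a, a, a, a, a, a, a].prod = a ^ 11 := by
  simp only [List.prod_cons, List.prod_nil, mul_one, pow_succ', pow_zero]

theorem prod14 {M : Type*} [Monoid M] (a b c d : M) :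
    [a, b, c, d, c, b, a, a, b, c, d, c, b, a].prod =
      a * (b * (c * (d * (c * (b * a))))) * (a * (b * (c * (d * (c * (b * a)))))) := by
  simp only [List.prod_cons, List.prod_nil, mul_one, mul_assoc]

theorem prod8 {M : Type*} [Monoid M] (a b c d : M) :
    [d, a, b, c, d, c, b, a].prod = d * (a * (b * (c * (d * (c * (b * a)))))) := by
  simp only [List.prod_cons, List.prod_nil, mul_one]

theorem mem22 {α : Type*} {a b c : α}
    (h : c ∈ [a, b, a, b, a, b, a, b, a, b, a, b, a, b, a, b, a, b, a, b, a, b]) : c = a ∨ c = b := by
  simp only [List.mem_cons, List.not_mem_nil, or_false] at h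
  tauto

theorem mem11 {α : Type*} {a c : α} (h : c ∈ [a, a, a, a, a, a, a, a, a, a, a]) : c = a := by
  simp only [List.mem_cons, List.not_mem_nil, or_false, or_self] at h
  exact h

theorem mem14 {α : Type*} {a b c d e : α} (h : e ∈ [a, b, c, d, c, b, a, a, b, c, d, c, b, a]) :
    e = a ∨ e = b ∨ e = c ∨ e = d := by
  simp only [List.mem_cons, List.not_mem_nil, or_false] at h
  tauto

theorem mem8 {α : Type*} {a b c d e : α} (h : e ∈ [d, a, b, c, d, c, b, a]) :
    e = a ∨ e = b ∨ e = c ∨ e = d := by
  simp only [List.mem_cons, List.not_mem_nil, or_false] at h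
  tauto

/-- the letters in `Spor.Co2` -/
noncomputable def y (k : ℕ) : Spor.Co2 := (exists_toCo0 (el_smul k)).choose

theorem toCo0_y (k : ℕ) : toCo0 (y k) = Cfsg.Agent.Co2Type.Co2El.el k := (exists_toCo0 (el_smul k)).choose_spec

theorem rho_y {k : ℕ} (hk : k < 17) : rho (toCo0 (y k)) = mt (Cs k) := by
  rw [toCo0_y]
  exact (good_el hk).2.2

theorem rho_t : rho (toCo0 (ge mv)) = mt (monG mv idP) := rho_mo2 iv okP_idP

/-- the conjugate of `t` -/
noncomputable def s : Spor.Co2 := y 0 * (y 4 * (y 16 * (ge mv * (y 16 * (y 4 * y 0)))))

/-- the element of order 11 -/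
noncomputable def w : Spor.Co2 := ge mv * s

theorem ok_of {c : ℕ} (hc : c = cD0 ∨ c = cD4 ∨ c = cHh ∨ c = monG mv idP ∨ c = Wc) : okG cfg c = true := by
  rcases hc with rfl | rfl | rfl | rfl | rfl
  · exact ok_Cs 0 (by norm_num)
  · exact ok_Cs 4 (by norm_num)
  · exact ok_Cs 16 (by norm_num)
  · exact okT
  · exact okW

theorem rho_y0 : rho (toCo0 (y 0)) = mt cD0 := rho_y (by norm_num)
theorem rho_y4 : rho (toCo0 (y 4)) = mt cD4 := rho_y (by norm_num)
theorem rho_y16 : rho (toCo0 (y 16)) = mt cHh := rho_y (by norm_num)

theorem inj2 {a b : Spor.Co2} (h : rho (toCo0 a) = rho (toCo0 b)) : a = b := toCo0_injective (rho_injective h)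

theorem ok4 {e : ℕ} (h : e = cD0 ∨ e = cD4 ∨ e = cHh ∨ e = monG mv idP) : okG cfg e = true := by
  rcases h with h | h | h | h
  · exact ok_of (Or.inl h)
  · exact ok_of (Or.inr (Or.inl h))
  · exact ok_of (Or.inr (Or.inr (Or.inl h)))
  · exact ok_of (Or.inr (Or.inr (Or.inr (Or.inl h))))

theorem rho_s : rho (toCo0 s) = mt cD0 * (mt cD4 * (mt cHh * (mt (monG mv idP) * (mt cHh * (mt cD4 * mt cD0))))) := by
  unfold s
  simp only [map_mul, rho_y0, rho_y4, rho_y16, rho_t]

theorem s_sq : s * s = 1 := by
  apply inj2
  have h := mt_prod_eq (w₁ := [cD0, cD4, cHh, monG mv idP, cHh, cD4, cD0, cD0, cD4, cHh, monG mv idP, cHh, cD4, cD0])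
    (w₂ := []) (fun g hg => ok4 (mem14 hg)) (fun g hg => absurd hg List.not_mem_nil) chkS
  rw [map_mul, map_mul, map_one, map_one, rho_s]
  exact (prod14 (mt cD0) (mt cD4) (mt cHh) (mt (monG mv idP))).symm.trans h

theorem rho_w : rho (toCo0 w) = mt Wc := by
  have h := mt_prod_eq (w₁ := [monG mv idP, cD0, cD4, cHh, monG mv idP, cHh, cD4, cD0]) (w₂ := [Wc])
    (fun g hg => ok4 (mem8 hg)) (fun g hg => by rw [List.mem_singleton.1 hg]; exact okW) chkW
  have h2 : ([Wc].map mt).prod = mt Wc := by rw [List.map_cons, List.map_nil, List.prod_singleton]
  rw [h2] at h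
  unfold w
  rw [map_mul, map_mul, rho_s, rho_t]
  exact (prod8 (mt cD0) (mt cD4) (mt cHh) (mt (monG mv idP))).symm.trans h

theorem t_sq : ge mv * ge mv = 1 := ge_sq iv

theorem t_w_t : ge mv * w * ge mv = w⁻¹ := by
  rw [eq_inv_iff_mul_eq_one]
  unfold w
  calc ge mv * (ge mv * s) * ge mv * (ge mv * s) = (ge mv * ge mv) * s * (ge mv * ge mv) * s := by group
    _ = 1 := by rw [t_sq, one_mul, mul_one, s_sq]

theorem w_ne : w ≠ 1 := by
  intro h
  have h1 := rho_w
  rw [h, map_one, map_one] at h1
  have h2 := unitRow_ok (good_of_check cfg_good) (c := 1) (i := 0) (by decide : 1 < cfg.p) (by decide : 0 < cfg.n)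
  have h3 := run_rv (w := [Wc]) (fun g hg => by rw [List.mem_singleton.1 hg]; exact okW) h2.1
  rw [List.map_cons, List.map_nil, List.prod_cons, List.prod_nil, mul_one, ← h1, Matrix.vecMul_one] at h3
  have h4 := rv_inj h3.1 h2.1 h3.2
  have h5 := chkW1
  rw [h4, Nat.beq_refl] at h5
  exact Bool.noConfusion h5

theorem w_pow : w ^ 11 = 1 := by
  apply inj2
  have h := mt_prod_eq (w₁ := [Wc, Wc, Wc, Wc, Wc, Wc, Wc, Wc, Wc, Wc, Wc]) (w₂ := [])
    (fun g hg => by rw [mem11 hg]; exact okW) (fun g hg => absurd hg List.not_mem_nil) chkW11
  rw [map_pow, map_pow, rho_w, map_one, map_one]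
  exact (prod11 (mt Wc)).symm.trans h

theorem fact11 : Fact (Nat.Prime 11) := ⟨by norm_num⟩

theorem orderOf_w : orderOf w = 11 := by
  have := fact11
  exact orderOf_eq_prime w_pow w_ne

/-- the order of `k w` -/
theorem orderOf_iff {k : Spor.Co2} (h2 : k * k = 1) : orderOf (k * w) = 11 ↔ (k * w) ^ 11 = 1 := by
  have := fact11
  constructor
  · intro h
    rw [← h]
    exact pow_orderOf_eq_one _
  · intro h
    refine orderOf_eq_prime h fun h1 => ?_
    have h3 : w = k := by
      have h4 : k * (k * w) = k := by rw [h1, mul_one]
      rwa [← mul_assoc, h2, one_mul] at h4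
    have h5 : orderOf w ∣ 2 := orderOf_dvd_of_pow_eq_one (by rw [h3, pow_two, h2])
    rw [orderOf_w] at h5
    norm_num at h5

theorem rho_pow {G : ℕ} (hG : okG cfg G = true) {k : Spor.Co2} (hk : rho (toCo0 k) = mt G) :
    (∀ c ∈ wd G, okG cfg c = true) ∧ rho (toCo0 ((k * w) ^ 11)) = ((wd G).map mt).prod := by
  constructor
  · intro c hc
    rcases mem22 hc with rfl | rfl
    · exact hG
    · exact okW
  · rw [map_pow, map_pow, map_mul, map_mul, hk, rho_w]
    exact (prod22 (mt G) (mt Wc)).symm

theorem pos {q : ℕ × ℕ} (hq : q ∈ KP) : orderOf (mq q * w) = 11 := by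
  have hqL : q ∈ KL := List.mem_append_left _ hq
  obtain ⟨h1, h2, -, h3, -⟩ := KL_spec hqL
  have h4 := chkPos_spec chkKP q hq
  obtain ⟨h5, h6⟩ := rho_pow h4.1 (rho_mo2 h1 h2)
  unfold mq
  rw [orderOf_iff h3]
  apply inj2
  rw [h6, mt_prod_eq h5 (fun g hg => absurd hg List.not_mem_nil) h4.2, map_one, map_one, List.map_nil, List.prod_nil]

theorem neg {q : ℕ × ℕ} (hq : q ∈ KN) : orderOf (mq q * w) ≠ 11 := by
  have hqL : q ∈ KL := List.mem_append_right _ hq
  obtain ⟨h1, h2, -, h3, -⟩ := KL_spec hqL
  have h4 := chkN_spec chkKN q hq
  obtain ⟨h5, h6⟩ := rho_pow h4.1 (rho_mo2 h1 h2)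
  unfold mq
  rw [Ne, orderOf_iff h3]
  intro h7
  rw [h7, map_one, map_one] at h6
  have h8 := unitRow_ok (good_of_check cfg_good) (c := 1) (i := 0) (by decide : 1 < cfg.p) (by decide : 0 < cfg.n)
  have h9 := run_rv h5 h8.1
  rw [← h6, Matrix.vecMul_one] at h9
  exact h4.2 (rv_inj h9.1 h8.1 h9.2)

/-- the number of involutions of trace -8 commuting with `t` with `k w` of order 11 -/
theorem card_KP : Nat.card {k : Spor.Co2 // k ∈ {k : Spor.Co2 | k * k = 1 ∧ tr k = -8} ∧ k * ge mv = ge mv * k ∧
    orderOf (k * w) = 11} = 24 := by
  have hn : KP.Nodup := (List.nodup_append.1 nodup_KL).1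
  rw [← length_KP, ← card_image (fun q hq => List.mem_append_left _ hq) hn]
  refine Nat.card_congr (Equiv.subtypeEquivRight fun k => ?_)
  constructor
  · rintro ⟨⟨h1, h2⟩, h3, h4⟩
    obtain ⟨q, hq, rfl⟩ := mem_KL h1 h2 h3
    rcases List.mem_append.1 hq with h5 | h5
    · exact ⟨q, h5, rfl⟩
    · exact absurd h4 (neg h5)
  · rintro ⟨q, hq, rfl⟩
    obtain ⟨-, -, -, h1, h2, h3⟩ := KL_spec (show q ∈ KL from List.mem_append_left _ hq)
    exact ⟨⟨h1, h2⟩, h3, pos hq⟩

theorem finite : Finite Spor.Co2 := Cfsg.Agent.Schreier.CoTwoStab.finite

/-- `Co2` has no elements of order 22 -/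
theorem not22 (g : Spor.Co2) : orderOf g ≠ 2 * 11 := by
  intro hg
  have := finite
  have hN : Cfsg.Agent.H729.PairBase.NoTwo Spor.Co2 11 := by
    refine Cfsg.Agent.H729.PairBase.NoTwo.of_one (by norm_num)
      (by rw [Cfsg.Agent.Schreier.CoTwoStab.card]; norm_num) Cfsg.Agent.H729.PairCoN.orderOf_x2 ?_
    intro t ht hc
    have h1 : toCo0 t = 1 := by
      apply Cfsg.Agent.H729.PairEleven.eq_one_of_fix
      · rw [← Cfsg.Agent.H729.PairCoN.toCo0_xx, ← map_mul, ← map_mul, hc.eq]
      · rw [← map_mul]
        have h2 := pow_orderOf_eq_one t
        rw [ht, pow_two] at h2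
        rw [h2, map_one]
      · exact toCo0_smul t
    rw [← map_one toCo0] at h1
    rw [toCo0_injective h1, orderOf_one] at ht
    norm_num at ht
  have h1 : orderOf (g ^ 11) = 2 := by
    rw [orderOf_pow, hg]; decide
  have h2 : orderOf (g ^ 2) = 11 := by
    rw [orderOf_pow, hg]; decide
  exact hN _ _ h1 h2 ((Commute.refl g).pow_pow 11 2)

theorem conj_K {k : Spor.Co2} (hk : k ∈ {k : Spor.Co2 | k * k = 1 ∧ tr k = -8}) :
    ge mv * k * ge mv ∈ {k : Spor.Co2 | k * k = 1 ∧ tr k = -8} := by
  obtain ⟨h1, h2⟩ := hk
  have ht : (ge mv)⁻¹ = ge mv := inv_eq_of_mul_eq_one_right t_sq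
  refine ⟨?_, ?_⟩
  · calc ge mv * k * ge mv * (ge mv * k * ge mv) = ge mv * k * (ge mv * ge mv) * k * ge mv := by group
      _ = ge mv * (k * k) * ge mv := by rw [t_sq]; group
      _ = 1 := by rw [h1, mul_one, t_sq]
  · have h3 := tr_conj (ge mv) k
    rw [ht] at h3
    rw [h3, h2]

theorem nb : NB Spor.Co2 := by
  have := finite
  refine NB.of_count' (r := 11) (by norm_num) (by norm_num) not22
    (K := {k : Spor.Co2 | k * k = 1 ∧ tr k = -8}) ?_ (fun k hk => hk.1) orderOf_w t_sq t_w_t ?_
  · rintro g k ⟨h1, h2⟩
    refine ⟨?_, by rw [tr_conj]; exact h2⟩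
    calc g * k * g⁻¹ * (g * k * g⁻¹) = g * (k * k) * g⁻¹ := by group
      _ = 1 := by rw [h1]; group
  · have h1 := card_modEq_of_involutive (α := {k : Spor.Co2 // k ∈ {k : Spor.Co2 | k * k = 1 ∧ tr k = -8}})
      (fun k => ⟨ge mv * k.1 * ge mv, conj_K k.2⟩) (fun k => Subtype.ext (conj_mul_conj (ge mv) k.1 t_sq))
    have h2 : Nat.card {a : {k : Spor.Co2 // k ∈ {k : Spor.Co2 | k * k = 1 ∧ tr k = -8}} //
        (⟨ge mv * a.1 * ge mv, conj_K a.2⟩ : {k : Spor.Co2 // k ∈ {k : Spor.Co2 | k * k = 1 ∧ tr k = -8}}) = a} =
        317 := by
      rw [← card_K]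
      refine Nat.card_congr ⟨fun a => ⟨a.1.1, a.1.2, ?_⟩, fun a => ⟨⟨a.1, a.2.1⟩, ?_⟩, fun a => rfl, fun a => rfl⟩
      · have h5 : ge mv * a.1.1 * ge mv = a.1.1 := congrArg Subtype.val a.2
        calc a.1.1 * ge mv = (ge mv * a.1.1 * ge mv) * ge mv := by rw [h5]
          _ = ge mv * a.1.1 * (ge mv * ge mv) := by group
          _ = ge mv * a.1.1 := by rw [t_sq, mul_one]
      · apply Subtype.ext
        show ge mv * a.1 * ge mv = a.1
        rw [← a.2.2, mul_assoc, t_sq, mul_one]
    rw [h2] at h1
    intro h
    rw [card_KP] at h
    have h3 := h.trans h1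
    exact absurd h3 (by decide)

/-- **`Co2` has more than one 2-block.** -/
theorem nb_co2 {S : Type u} [Group S] [Finite S] (h : Spor.IsoCo2 S) : NB S := by
  obtain ⟨e⟩ := h
  exact NB.iso e.symm nb

end Cfsg.Agent.H663.ObCo2
end

private theorem dce_37b7a74f929c : _root_.True := by
  try have : _root_.True := by simp only [_root_.Cfsg.Agent.H663.ObCo2.memP.eq_2]
  try have : _root_.True := by simp only [_root_.Cfsg.Agent.H663.ObCo2.nodupP.eq_2]
  try have : _root_.True := by simp only [_root_.Cfsg.Agent.H663.ObCo2.memP.eq_1]
  try have : _root_.True := by simp only [_root_.Cfsg.Agent.H663.ObCo2.nodupP.eq_def]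
  try have : _root_.True := by simp only [_root_.Cfsg.Agent.H663.ObCo2.memP.eq_def]
  try have : _root_.True := by simp only [_root_.Cfsg.Agent.H663.ObCo2.nodupP.eq_1]
  exact _root_.True.intro
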