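import Mathlib
import Cfsg.Agent.H670.SL2Odd
import Cfsg.Agent.CharactersDeep.ExtUnique
import Cfsg.Agent.Prune
set_option linter.all false
prune_inst 0x7f00000000000000000000000000000000000000000000000000000000000000000000000000000000000000000000000000000000000000000000000000000000000000000000000000000000000000003ffffffffffffffffffff7ffffffbeffbdf7ffffff
open scoped Cfsg.Agent.FastGrp

/-!
# Characters of `SL₂(q)`, `q ≡ 3 mod 4`, of degree `(q - 1) / 2` (helper663)

* `one_of_odd` : central involutions act trivially in irreducible representations of odd degree of a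
  perfect group;
* `exists_psiHom` : all the linear characters of the additive group;
* `type_half`, `eq_of_half` : the types of the characters of degree `(q - 1) / 2`.
-/

set_option autoImplicit false
set_option linter.style.haveILetI false
set_option linter.unusedSectionVars false
open Cfsg

namespace Cfsg.Agent.H663.GmnPsl

open Matrix Cfsg.Agent.Characters.Core Cfsg.Agent.H670.RankOne Cfsg.Agent.H670.SL2

universe u v

/-- A central involution acts trivially in a representation of odd degree of a perfect group. -/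
theorem one_of_odd {G : Type u} [Group G] (hperf : ∀ (f : G →* ℂˣ) (g : G), f g = 1) {χ : G → ℂ}
    (hχ : IsIrrCharacter G χ) {d : ℕ} (hd : χ 1 = d) (hodd : Odd d) {z : G}
    (hz : ∀ g, z * g = g * z) (hz2 : z * z = 1) : χ z = χ 1 := by
  obtain ⟨n, ρ, hρ, rfl⟩ := hχ
  obtain ⟨c, hc⟩ := CharactersDeep.ExtUnique.exists_smul_of_comm ρ hρ (ρ z) (fun g v => by
    have h1 : ρ (z * g) v = ρ (g * z) v := by rw [hz]
    rw [map_mul, map_mul] at h1
    exact h1)
  have hc' : ρ z = c • (1 : Module.End ℂ (Fin n → ℂ)) := LinearMap.ext hc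
  have hn : ρ.character 1 = n := by
    rw [Representation.char_one, Module.finrank_fin_fun]
  have hnd : n = d := by
    rw [hn] at hd
    exact_mod_cast hd
  have hdet : c ^ n = 1 := by
    let f : G →* ℂˣ := MonoidHom.toHomUnits
      { toFun := fun g => LinearMap.det (ρ g)
        map_one' := by rw [map_one]; exact LinearMap.det_id
        map_mul' := fun g h => by rw [map_mul]; exact map_mul LinearMap.det _ _ }
    have h1 : LinearMap.det (ρ z) = 1 := congrArg Units.val (hperf f z)
    rw [hc', LinearMap.det_smul] at h1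
    have h2 : LinearMap.det (1 : Module.End ℂ (Fin n → ℂ)) = 1 := LinearMap.det_id
    rw [h2, mul_one, Module.finrank_fin_fun] at h1
    exact h1
  have hc2 : c * c = 1 := by
    have h1 : ρ z * ρ z = 1 := by rw [← map_mul, hz2, map_one]
    rw [hc', smul_mul_smul_comm, one_mul] at h1
    have h2 := congrArg (LinearMap.trace ℂ (Fin n → ℂ)) h1
    rw [map_smul] at h2
    have h3 : LinearMap.trace ℂ (Fin n → ℂ) (1 : Module.End ℂ (Fin n → ℂ)) = n := by
      rw [LinearMap.trace_one, Module.finrank_fin_fun]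
    rw [h3, smul_eq_mul] at h2
    have h4 : (n : ℂ) ≠ 0 := by
      rw [hnd]
      obtain ⟨k, rfl⟩ := hodd
      exact Nat.cast_ne_zero.2 (by omega)
    exact mul_right_cancel₀ h4 (h2.trans (one_mul _).symm)
  have hc1 : c = 1 := by
    rw [hnd] at hdet
    obtain ⟨k, rfl⟩ := hodd
    rw [pow_add, pow_mul, pow_two, hc2, one_pow, one_mul, pow_one] at hdet
    exact hdet
  have h5 : ρ z = ρ 1 := by rw [hc', hc1, one_smul, map_one]
  show LinearMap.trace ℂ _ (ρ z) = LinearMap.trace ℂ _ (ρ 1)
  rw [h5]

section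
variable {F : Type v} [Field F]

theorem perfect [Fintype F] (h3 : 3 < Fintype.card F) (f : SpecialLinearGroup (Fin 2) F →* ℂˣ)
    (g : SpecialLinearGroup (Fin 2) F) : f g = 1 := by
  classical
  -- a unit with `v² ≠ 1`
  obtain ⟨v, hv⟩ : ∃ v : Fˣ, v ^ 2 ≠ 1 := by
    by_contra hcon
    push Not at hcon
    have h1 : Fintype.card Fˣ ≤ 2 := by
      have h2 : (Finset.univ : Finset Fˣ) ⊆ {1, -1} := by
        intro v _
        have h3 : (v : F) ^ 2 = 1 := by rw [← Units.val_pow_eq_pow_val, hcon v, Units.val_one]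
        rw [Finset.mem_insert, Finset.mem_singleton]
        rcases mul_self_eq_one_iff.1 ((pow_two (v : F)).symm.trans h3) with h4 | h4
        · left; exact Units.ext h4
        · right; exact Units.ext h4
      exact (Finset.card_le_card h2).trans Finset.card_le_two
    rw [Fintype.card_units] at h1
    omega
  refine Cfsg.Agent.H670.SL2.hom_eq_one f (fun s => ?_) g
  have hv1 : (v : F) ^ 2 - 1 ≠ 0 := by
    intro h
    apply hv
    apply Units.ext
    rw [Units.val_pow_eq_pow_val, Units.val_one]
    exact sub_eq_zero.1 h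
  have h1 : x s = tor v * x (s / ((v : F) ^ 2 - 1)) * (tor v)⁻¹ * (x (s / ((v : F) ^ 2 - 1)))⁻¹ := by
    rw [tor_mul_x, mul_inv_cancel_right, eq_mul_inv_iff_mul_eq, ← data_X, ← data_X, ← data_X,
      ← (data F).X_add]
    congr 1
    field_simp
    ring
  rw [h1]
  simp only [map_mul, map_inv]
  rw [mul_comm (f (tor v)), mul_inv_cancel_right, mul_inv_cancel]

/-- All the linear characters of the additive group. -/
theorem exists_psiHom [Fintype F] (ν : Multiplicative F →* ℂˣ) : ∃ c : F, ν = psiHom c := by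
  classical
  have hinj : Function.Injective (psiHom : F → (Multiplicative F →* ℂˣ)) := by
    intro c d hcd
    have h1 : ∀ s : F, psi F (s * (c - d)) = 1 := by
      intro s
      have h2 := congrArg (fun f : Multiplicative F →* ℂˣ => ((f (Multiplicative.ofAdd s) : ℂˣ) : ℂ)) hcd
      simp only [psiHom_apply, toAdd_ofAdd] at h2
      rw [mul_sub, sub_eq_add_neg, AddChar.map_add_eq_mul, h2, ← AddChar.map_add_eq_mul,
        add_neg_cancel, AddChar.map_zero_eq_one]
    have h2 := sum_psi (c - d)
    rw [Finset.sum_congr rfl fun s _ => h1 s, Finset.sum_const, nsmul_eq_mul, mul_one,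
      Finset.card_univ] at h2
    by_contra hne
    rw [if_neg (sub_ne_zero.2 hne)] at h2
    exact cardF_ne F h2
  have hfin := finite_hom (A := Multiplicative F) (fun a b => mul_comm a b)
  have := Fintype.ofFinite (Multiplicative F →* ℂˣ)
  have hcard : Fintype.card F = Fintype.card (Multiplicative F →* ℂˣ) := by
    rw [← Nat.card_eq_fintype_card (α := Multiplicative F →* ℂˣ),
      card_hom (A := Multiplicative F) (fun a b => mul_comm a b), Nat.card_eq_fintype_card,
      Fintype.card_multiplicative]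
  obtain ⟨c, hc⟩ := ((Fintype.bijective_iff_injective_and_card _).2 ⟨hinj, hcard⟩).2 ν
  exact ⟨c, hc.symm⟩

variable [Fintype F] [DecidableEq F] {nu : F} (hnu : ¬ IsSquare nu) {h : ℕ}
  (hq : Fintype.card F = 2 * h + 1) (hh : 1 < h)

include hnu hq hh in
/-- The type of a character of degree `(q - 1) / 2`. -/
theorem type_half (χ : IrrCharacter (SpecialLinearGroup (Fin 2) F))
    (hd : (χ : SpecialLinearGroup (Fin 2) F → ℂ) 1 = h) :
    ty nu χ = (0, 1, 0) ∨ ty nu χ = (0, 0, 1) := by
  have h1 := degree_eq_ty hnu χ hq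
  rw [hd] at h1
  have h2 : h = (ty nu χ).1 + h * ((ty nu χ).2.1 + (ty nu χ).2.2) := by exact_mod_cast h1
  have h3 := ty_mem hnu χ
  simp only [tys, Finset.mem_insert, Finset.mem_singleton] at h3
  rcases h3 with h4 | h4 | h4 | h4 | h4 | h4 | h4 | h4
  · rw [h4] at h2; exfalso; simp only at h2; omega
  · rw [h4] at h2; exfalso; simp only at h2; omega
  · rw [h4] at h2; exfalso; simp only at h2; omega
  · rw [h4] at h2; exfalso; simp only at h2; omega
  · rw [h4] at h2; exfalso; simp only at h2; omega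
  · rw [h4] at h2; exfalso; simp only at h2; omega
  · left; exact h4
  · right; exact h4

include hnu hq in
/-- There is only one character of each of the two types. -/
theorem eq_of_type {χ χ' : IrrCharacter (SpecialLinearGroup (Fin 2) F)}
    (h1 : ty nu χ = (0, 1, 0) ∨ ty nu χ = (0, 0, 1)) (h2 : ty nu χ' = ty nu χ) : χ = χ' := by
  have := finite_irr (G := SpecialLinearGroup (Fin 2) F)
  have : Fintype (IrrCharacter (SpecialLinearGroup (Fin 2) F)) := Fintype.ofFinite _
  obtain ⟨-, -, -, -, -, -, c7, c8⟩ := counts hnu hq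
  rw [N, Finset.card_eq_one] at c7 c8
  have key : ∀ t, (∃ a, (Finset.univ.filter fun χ : IrrCharacter (SpecialLinearGroup (Fin 2) F) =>
      ty nu χ = t) = {a}) → ty nu χ = t → χ = χ' := by
    rintro t ⟨a, ha⟩ ht
    have e1 : χ ∈ (Finset.univ.filter fun χ : IrrCharacter (SpecialLinearGroup (Fin 2) F) =>
      ty nu χ = t) := Finset.mem_filter.2 ⟨Finset.mem_univ _, ht⟩
    have e2 : χ' ∈ (Finset.univ.filter fun χ : IrrCharacter (SpecialLinearGroup (Fin 2) F) =>
      ty nu χ = t) := Finset.mem_filter.2 ⟨Finset.mem_univ _, h2.trans ht⟩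
    rw [ha, Finset.mem_singleton] at e1 e2
    rw [e1, e2]
  rcases h1 with h1 | h1
  · exact key _ c7 h1
  · exact key _ c8 h1

include hnu hq hh in
/-- The nonzero Fourier coefficients of a character of degree `(q - 1) / 2`. -/
theorem half_ne_zero (χ : IrrCharacter (SpecialLinearGroup (Fin 2) F))
    (hd : (χ : SpecialLinearGroup (Fin 2) F → ℂ) 1 = h) {c : F} (hc : (data F).n χ c ≠ 0) :
    c ≠ 0 ∧ (ty nu χ = (0, 1, 0) ↔ IsSquare c) := by
  rcases type_half hnu hq hh χ hd with h1 | h1
  · have e0 : (data F).n χ 0 = 0 := congrArg Prod.fst h1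
    have e1 : (data F).n χ 1 = 1 := congrArg (fun p : ℕ × ℕ × ℕ => p.2.1) h1
    have e2 : (data F).n χ nu = 0 := congrArg (fun p : ℕ × ℕ × ℕ => p.2.2) h1
    refine ⟨?_, ⟨fun _ => ?_, fun _ => h1⟩⟩
    · rintro rfl
      exact hc e0
    · by_contra hs
      exact hc ((n_not_square χ hs hnu).trans e2)
  · have e0 : (data F).n χ 0 = 0 := congrArg Prod.fst h1
    have e1 : (data F).n χ 1 = 0 := congrArg (fun p : ℕ × ℕ × ℕ => p.2.1) h1
    have hc0 : c ≠ 0 := by
      rintro rfl
      exact hc e0
    refine ⟨hc0, ⟨fun h2 => ?_, fun h2 => ?_⟩⟩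
    · rw [h1] at h2
      simp at h2
    · exact absurd ((n_square χ hc0 h2).trans e1) hc

include hnu hq hh in
/-- Two characters of degree `(q - 1) / 2` with a common constituent are equal. -/
theorem eq_of_half {χ χ' : IrrCharacter (SpecialLinearGroup (Fin 2) F)}
    (hd : (χ : SpecialLinearGroup (Fin 2) F → ℂ) 1 = h)
    (hd' : (χ' : SpecialLinearGroup (Fin 2) F → ℂ) 1 = h) {c : F} (hc : (data F).n χ c ≠ 0)
    (hc' : (data F).n χ' c ≠ 0) : χ = χ' := by
  have h1 := type_half hnu hq hh χ hd
  have h1' := type_half hnu hq hh χ' hd'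
  have h2 := (half_ne_zero hnu hq hh χ hd hc).2
  have h2' := (half_ne_zero hnu hq hh χ' hd' hc').2
  apply eq_of_type hnu hq h1
  by_cases hs : IsSquare c
  · rw [h2.2 hs, h2'.2 hs]
  · rcases h1 with h1 | h1
    · exact absurd (h2.1 h1) hs
    · rcases h1' with h1' | h1'
      · exact absurd (h2'.1 h1') hs
      · rw [h1, h1']

include hnu hq hh in
theorem half_same_class {χ : IrrCharacter (SpecialLinearGroup (Fin 2) F)}
    (hd : (χ : SpecialLinearGroup (Fin 2) F → ℂ) 1 = h) {c c' : F} (hc : (data F).n χ c ≠ 0)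
    (hc' : (data F).n χ c' ≠ 0) : ∃ v : Fˣ, c' = (v : F) ^ 2 * c := by
  obtain ⟨h0, h2⟩ := half_ne_zero hnu hq hh χ hd hc
  obtain ⟨h0', h2'⟩ := half_ne_zero hnu hq hh χ hd hc'
  have h3 : IsSquare c ↔ IsSquare c' := h2.symm.trans h2'
  have h4 : IsSquare (c' * c⁻¹) := by
    by_cases hs : IsSquare c
    · exact (h3.1 hs).mul hs.inv
    · rw [← quadraticChar_one_iff_isSquare (mul_ne_zero h0' (inv_ne_zero h0)), map_mul]
      have hd' : ¬ IsSquare c⁻¹ := fun h => hs (by
        rw [← inv_inv c]; exact h.inv)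
      rw [quadraticChar_neg_one_iff_not_isSquare.2 (fun h => hs (h3.2 h)),
        quadraticChar_neg_one_iff_not_isSquare.2 hd']
      norm_num
  obtain ⟨v, hv⟩ := h4
  have hv0 : v ≠ 0 := by
    rintro rfl
    rw [mul_zero] at hv
    exact mul_ne_zero h0' (inv_ne_zero h0) hv
  refine ⟨Units.mk0 v hv0, ?_⟩
  rw [Units.val_mk0, pow_two, ← hv, inv_mul_cancel_right₀ h0]

/-- The trivial character. -/
theorem one_ne_zero_iff {c : F} :
    (data F).n (triv : IrrCharacter (SpecialLinearGroup (Fin 2) F)) c ≠ 0 → c = 0 := by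
  intro hc
  by_contra h0
  apply hc
  rw [Data.n_eq_iff]
  show (data F).cf 1 c = _
  rw [Data.cf_one_ne _ h0, Nat.cast_zero]

end

end Cfsg.Agent.H663.GmnPsl
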