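import Mathlib
import Cfsg.Agent.H502.ThFiveP
import Cfsg.Agent.MonsterX.ThOneClass
import Cfsg.Agent.H711.Crit_m3
import Cfsg.Agent.S2083
import Cfsg.Agent.Prune
set_option linter.all false
prune_inst 0x7f00000000000000000000000000000000000000000000000000000000000000000000000000000000000000000000000000000000000000000000000000000000000000000000000000000000000000003fffffffffffffffffffffffffffbeffbdffffffff
open scoped Cfsg.Agent.FastGrp

/-!
# The Thompson group at the prime 3: a row of the Guralnick–Malle–Navarro table (helper663)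

An involution normalises a Sylow `3`-subgroup (helper502) and does not centralise it.
-/

set_option autoImplicit false

open Cfsg Subgroup

namespace Cfsg.Agent.H663.GmnTh

open Cfsg.Agent.H711.Crit Cfsg.Agent.H712.Gmn
open Cfsg.Agent.H502.ThKlein Cfsg.Agent.H502.ThFlag Cfsg.Agent.H502.ThThree Cfsg.Agent.Th.Gen248
  Cfsg.Agent.Th.Hom248 Cfsg.Agent.Th

theorem nn_th : NN 3 Cfsg.Spor.Th := by
  have h3 : Fact (Nat.Prime 3) := ⟨Nat.prime_three⟩
  obtain ⟨S, hS⟩ := card_three (k := 10) isPGroup_S3 dvd_card_S3 (by norm_num)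
  have hu2 : el [.a] * el [.a] = 1 := el_eq a_sq (rho_mul (rho_gen _) (rho_gen _)) rho_one
  have hu1 : el [.a] ≠ 1 := glW_ne a_ne (rho_gen _) rho_one
  have ho : orderOf (el [.a]) = 2 := orderOf_eq_prime (by rw [pow_two, hu2]) hu1
  refine ⟨S, el [.a], by rw [ho]; norm_num, fun x hx => ?_, ?_⟩
  · have hx' : x ∈ S3 := by rw [← hS]; exact hx
    have := norm_S3 ta hx'
    rw [← hS] at this
    exact this
  · by_contra hcon
    push Not at hcon
    have hle : S3 ≤ centralizer ({el [.a]} : Set Cfsg.Spor.Th) := by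
      intro x hx
      rw [mem_centralizer_singleton_iff]
      have hx' : x ∈ (S : Subgroup Cfsg.Spor.Th) := by rw [hS]; exact hx
      have := hcon x hx'
      rw [mul_inv_eq_iff_eq_mul] at this
      exact this.symm
    have h1 := dvd_card_S3.trans (card_dvd_of_le hle)
    rw [Cfsg.Agent.MonsterX.ThOneClass.card_centralizer ho] at h1
    norm_num at h1

theorem th {K : Type*} [Group K] (h : Spor.IsoTh K) : RowS 3 K := by
  have h3 : Fact (Nat.Prime 3) := ⟨Nat.prime_three⟩
  obtain ⟨e⟩ := h
  have hs : IsSimpleGroup Cfsg.Spor.Th := Main1700.isTh.1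
  have hf : Finite Cfsg.Spor.Th := Main1700.final.1
  have hc := Main1700.final.2.1
  have hZ : center Cfsg.Spor.Th = ⊥ := by
    rcases (inferInstance : (center Cfsg.Spor.Th).Normal).eq_bot_or_eq_top with h1 | h1
    · exact h1
    · exfalso
      have hcomm : ∀ x y : Cfsg.Spor.Th, x * y = y * x := fun x y =>
        mem_center_iff.1 (by rw [h1]; trivial : y ∈ center Cfsg.Spor.Th) x
      obtain ⟨Q, g, -, -, t, -, hne⟩ := nn_th
      apply hne
      rw [hcomm g t, mul_inv_cancel_right]
  refine (rowS_of_NN hZ ?_ nn_th).congr e.symm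
  intro h0
  have h1 : 3 ∣ Nat.card (Out Cfsg.Spor.Th) := h0
  rw [S2083.result] at h1
  norm_num at h1

end Cfsg.Agent.H663.GmnTh
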